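import Cfsg.Agent.Lib.Coprime.Generation

/-!
# Actions of abelian groups with incomparable orbit lengths
-/

set_option autoImplicit false
set_option linter.unusedSectionVars false
set_option linter.style.haveILetI false

namespace Cfsg.Agent.Lib.NoDivDegrees78.Abstract

universe u v

section CommonStab

variable {U : Type u} [Group U] {V : Type v} [CommGroup V]

theorem act_comm (hU : ∀ a b : U, a * b = b * a) (act : U →* MulAut V) (a b : U) (x : V) :
    act a (act b x) = act b (act a x) := by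
  rw [← MulAut.mul_apply, ← map_mul, hU, map_mul, MulAut.mul_apply]

/-- If stabilisers of moved points are never properly nested, they all coincide. -/
theorem common_stab (hU : ∀ a b : U, a * b = b * a) (act : U →* MulAut V)
    (hanti : ∀ μ ν : V, (∃ u, act u μ ≠ μ) → (∃ u, act u ν ≠ ν) →
      (∀ u, act u μ = μ → act u ν = ν) → ∀ u, act u ν = ν → act u μ = μ)
    (hnofix : ∀ (h : U) (ν : V), act h ν ≠ ν → ∃ u, act u (act h ν / ν) ≠ act h ν / ν) :
    ∀ μ ν : V, (∃ u, act u μ ≠ μ) → (∃ u, act u ν ≠ ν) → ∀ u, act u μ = μ → act u ν = ν := by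
  intro μ ν hμ hν h hh
  by_contra hhν
  set δ := act h ν / ν with hδ
  have hδm := hnofix h ν hhν
  have hle : ∀ u, act u ν = ν → act u δ = δ := fun u hu => by
    rw [hδ, map_div, act_comm hU act u h, hu]
  have heq := hanti ν δ hν hδm hle
  set ω := μ * ν with hω
  have hωh : act h ω / ω = δ := by
    rw [hω, map_mul, hh, hδ, mul_div_mul_left_eq_div]
  have hωm : ∃ u, act u ω ≠ ω := ⟨h, fun he => by
    rw [he, div_self'] at hωh
    obtain ⟨u, hu⟩ := hδm
    exact hu (by rw [← hδ, ← hωh]; exact map_one _)⟩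
  have hωle : ∀ u, act u ω = ω → act u ν = ν := fun u hu => heq u (by
    rw [← hωh, map_div, act_comm hU act u h, hu])
  have hνω := hanti ω ν hωm hν hωle
  have hνμ : ∀ u, act u ν = ν → act u μ = μ := fun u hu => by
    have h1 := hνω u hu
    rw [hω, map_mul, hu] at h1
    exact mul_right_cancel h1
  exact hhν (hanti ν μ hν hμ hνμ h hh)

/-- A plane acting without common fixed points on a module of coprime order is impossible. -/
theorem no_plane [Finite V] {q : ℕ} [hq : Fact q.Prime] (hU : ∀ a b : U, a * b = b * a)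
    (act : U →* MulAut V) (hcop : q.Coprime (Nat.card V)) (X : Subgroup U)
    (hX : ∀ x : V, (∃ u, act u x ≠ x) → ∀ u, act u x = x ↔ u ∈ X) (a b : U) (ha : a ^ q ∈ X)
    (hb : b ^ q ∈ X) (hab : ∀ i j : ℕ, a ^ i * b ^ j ∈ X → q ∣ i ∧ q ∣ j) :
    ∀ (x : V) (u : U), act u x = x := by
  classical
  intro x u
  by_contra hu
  have hfix : ∀ g : U, g ∉ X → ∀ y : V, act g y = y → ∀ u, act u y = y := by
    intro g hg y hy u
    by_contra huy
    exact hg ((hX y ⟨u, huy⟩ g).mp hy)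
  have hxX : ∀ g ∈ X, act g x = x := fun g hg => (hX x ⟨u, hu⟩ g).mpr hg
  have hmod : ∀ i j : ℕ, act (a ^ i * b ^ j) x = act (a ^ (i % q) * b ^ (j % q)) x := by
    intro i j
    have e : a ^ i * b ^ j = (a ^ (i % q) * b ^ (j % q)) * ((a ^ q) ^ (i / q) * (b ^ q) ^ (j / q)) := by
      conv_lhs => rw [← Nat.mod_add_div i q, ← Nat.mod_add_div j q, pow_add, pow_add, pow_mul,
        pow_mul]
      rw [mul_assoc, mul_assoc, ← mul_assoc ((a ^ q) ^ (i / q)), hU ((a ^ q) ^ (i / q)) (b ^ (j % q)),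
        mul_assoc]
    rw [e, map_mul, MulAut.mul_apply, hxX _ (mul_mem (pow_mem ha _) (pow_mem hb _))]
  let w : ZMod q → ZMod q → V := fun i j => act (a ^ i.val * b ^ j.val) x
  have hw : ∀ i j : ℕ, act (a ^ i * b ^ j) x = w i j := fun i j => by
    simp only [w, ZMod.val_natCast]
    exact hmod i j
  have hshift : ∀ (k l : ℕ) (i j : ZMod q), act (a ^ k * b ^ l) (w i j) = w (k + i) (l + j) := by
    intro k l i j
    show act (a ^ k * b ^ l) (act (a ^ i.val * b ^ j.val) x) = _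
    rw [← MulAut.mul_apply, ← map_mul, mul_assoc, ← mul_assoc (b ^ l), hU (b ^ l) (a ^ i.val),
      mul_assoc, ← pow_add, ← mul_assoc, ← pow_add, hw]
    simp
  have hnot : ∀ k l : ℕ, ¬ (q ∣ k ∧ q ∣ l) → a ^ k * b ^ l ∉ X := fun k l h hm => h (hab k l hm)
  have h1 : ¬ q ∣ 1 := hq.out.not_dvd_one
  have hline : ∀ t : ZMod q, ∀ u, act u (∏ i : ZMod q, w i (t * i)) = ∏ i : ZMod q, w i (t * i) := by
    intro t
    refine hfix _ (hnot 1 t.val fun h => h1 h.1) _ ?_
    rw [map_prod]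
    refine Fintype.prod_equiv (Equiv.addLeft 1) _ _ fun i => ?_
    rw [hshift, ZMod.natCast_zmod_val, Nat.cast_one]
    show w (1 + i) (t + t * i) = w (1 + i) (t * (1 + i))
    rw [mul_add, mul_one]
  have hline0 : ∀ u, act u (∏ j : ZMod q, w 0 j) = ∏ j : ZMod q, w 0 j := by
    refine hfix _ (hnot 0 1 fun h => h1 h.2) _ ?_
    rw [map_prod]
    refine Fintype.prod_equiv (Equiv.addLeft 1) _ _ fun j => ?_
    rw [hshift, Nat.cast_zero, zero_add, Nat.cast_one]
    rfl
  have hall : ∀ u, act u (∏ i : ZMod q, ∏ j : ZMod q, w i j) = ∏ i : ZMod q, ∏ j : ZMod q, w i j := by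
    refine hfix _ (hnot 1 0 fun h => h1 h.1) _ ?_
    rw [map_prod]
    refine Fintype.prod_equiv (Equiv.addLeft 1) _ _ fun i => ?_
    rw [map_prod]
    refine Fintype.prod_congr _ _ fun j => ?_
    rw [hshift, Nat.cast_one, Nat.cast_zero, zero_add]
    rfl
  have hkey := Cfsg.Agent.Lib.Coprime.prod_lines q w
  have hx0 : w 0 0 = x := by simp [w]
  rw [hx0] at hkey
  have h2 : act u (x ^ q) = x ^ q := by
    have e : x ^ q = (∏ t : ZMod q, ∏ i : ZMod q, w i (t * i)) * (∏ j : ZMod q, w 0 j) /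
        (∏ i : ZMod q, ∏ j : ZMod q, w i j) := eq_div_of_mul_eq' hkey.symm
    rw [e, map_div, map_mul, hall, hline0, map_prod, Finset.prod_congr rfl fun t _ => hline t u]
  rw [map_pow] at h2
  exact hu ((powCoprime hcop.symm).injective h2)

end CommonStab

section Diff

variable {U : Type u} [Group U] (hU : ∀ a b : U, a * b = b * a) (α : U ≃* U)

/-- `v ↦ v^α v⁻¹` on an abelian group. -/
def diff : U →* U :=
  MonoidHom.mk' (fun v => α v * v⁻¹) fun a b => by
    rw [map_mul, mul_inv_rev, hU b⁻¹ a⁻¹, mul_assoc, ← mul_assoc (α b), hU (α b) a⁻¹, mul_assoc,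
      ← mul_assoc]

theorem diff_apply (v : U) : diff hU α v = α v * v⁻¹ := rfl

theorem apply_eq_diff_mul (v : U) : α v = diff hU α v * v := by
  rw [diff_apply, inv_mul_cancel_right]

theorem pow_eq_one_of_fixed {n : ℕ} (hn : ∀ v, (⇑α)^[n] v = v) {x : U}
    (hx : x ∈ (diff hU α).range) (hfix : α x = x) : x ^ n = 1 := by
  obtain ⟨v, rfl⟩ := hx
  have h : ∀ k, (⇑α)^[k] v = diff hU α v ^ k * v := by
    intro k
    induction k with
    | zero => simp
    | succ k ih =>
      rw [Function.iterate_succ_apply', ih, map_mul, map_pow, hfix, apply_eq_diff_mul hU α v,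
        ← mul_assoc, ← pow_succ]
  have h1 := h n
  rw [hn] at h1
  exact (mul_eq_right.mp h1.symm)

theorem relIndex_range_dvd {X : Subgroup U} (hX : ∀ x ∈ X, α x ∈ X) :
    X.relIndex (diff hU α).range ∣ X.index := by
  rw [← Subgroup.index_comap]
  refine Subgroup.index_dvd_of_le fun x hx => ?_
  rw [Subgroup.mem_comap, diff_apply]
  exact mul_mem (hX x hx) (inv_mem hx)

theorem relIndex_range_eq [Finite U] {n : ℕ} (hn : ∀ v, (⇑α)^[n] v = v) {X Y : Subgroup U}
    (hX : ∀ x ∈ X, α x = x) (hY : ∀ y ∈ Y, α y = y) (hcX : n.Coprime X.index)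
    (hcY : n.Coprime Y.index) :
    X.relIndex (diff hU α).range = Y.relIndex (diff hU α).range := by
  set Φ := (diff hU α).range with hΦ
  have hcard : ∀ Z : Subgroup U, Z.relIndex Φ * Nat.card (Z ⊓ Φ : Subgroup U) = Nat.card Φ := by
    intro Z
    rw [← Subgroup.inf_relIndex_right, mul_comm]
    rw [← Subgroup.relIndex_bot_left, Subgroup.relIndex_mul_relIndex _ _ _ bot_le inf_le_right,
      Subgroup.relIndex_bot_left]
  have hcop : ∀ Z Z' : Subgroup U, (∀ z ∈ Z, α z = z) → n.Coprime Z'.index →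
      (∀ z ∈ Z', α z = z) →
      (Z'.relIndex Φ).Coprime (Nat.card (Z ⊓ Φ : Subgroup U)) := by
    intro Z Z' hZ hc hZ'
    refine Nat.coprime_of_dvd fun p hp hp1 hp2 => ?_
    haveI := Fact.mk hp
    obtain ⟨z, hz⟩ := exists_prime_orderOf_dvd_card' p hp2
    have h1 : (z : U) ^ n = 1 := pow_eq_one_of_fixed hU α hn (Subgroup.mem_inf.mp z.2).2
      (hZ _ (Subgroup.mem_inf.mp z.2).1)
    have h2 : p ∣ n := by
      rw [← hz, ← Subgroup.orderOf_coe]
      exact orderOf_dvd_of_pow_eq_one h1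
    exact hp.not_dvd_one (hc ▸ Nat.dvd_gcd h2
      (hp1.trans (relIndex_range_dvd hU α fun x hx => by rwa [hZ' x hx])))
  have key : ∀ Z Z' : Subgroup U, (∀ z ∈ Z, α z = z) → n.Coprime Z'.index →
      (∀ z ∈ Z', α z = z) → Z'.relIndex Φ ∣ Z.relIndex Φ := by
    intro Z Z' hZ hc hZ'
    refine (hcop Z Z' hZ hc hZ').dvd_of_dvd_mul_right ?_
    rw [hcard Z, ← hcard Z']
    exact dvd_mul_right _ _
  exact Nat.dvd_antisymm (key Y X hY hcX hX) (key X Y hX hcY hY)

theorem pow_gcd_mem {W : Type*} [Group W] (J : Subgroup W) {x : W} {m n : ℕ} (hm : x ^ m ∈ J)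
    (hn : x ^ n ∈ J) : x ^ Nat.gcd m n ∈ J := by
  rw [← zpow_natCast, Nat.gcd_eq_gcd_ab, zpow_add, zpow_mul, zpow_mul, zpow_natCast, zpow_natCast]
  exact mul_mem (zpow_mem hm _) (zpow_mem hn _)

/-- Counting the fixed points of a map permuting each orbit of a semiregular abelian group. -/
theorem orbit_count [Finite U] {Ω : Type v} [Finite Ω] [MulAction U Ω] (X : Subgroup U)
    (hX : ∀ (ω : Ω) (u : U), u • ω = ω ↔ u ∈ X) (σ : Ω → Ω)
    (hσ : ∀ (u : U) (ω : Ω), σ (u • ω) = α u • σ ω) (horb : ∀ ω, ∃ u : U, σ ω = u • ω) {n : ℕ}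
    (hσn : ∀ ω, σ^[n] ω = ω) (hcop : n.Coprime X.index) :
    Nat.card Ω = X.relIndex (diff hU α).range * Nat.card {ω : Ω // σ ω = ω} := by
  classical
  set φ := diff hU α with hφ
  haveI : X.Normal := ⟨fun x hx g => by rw [hU g x, mul_inv_cancel_right]; exact hx⟩
  have hexists : ∀ ω : Ω, ∃ u : U, σ (u • ω) = u • ω := by
    intro ω
    obtain ⟨u₀, hu₀⟩ := horb ω
    have hiter : ∀ k, ∃ d ∈ φ.range, σ^[k] ω = (u₀ ^ k * d) • ω := by
      intro k
      induction k with
      | zero => exact ⟨1, one_mem _, by simp⟩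
      | succ k ih =>
        obtain ⟨d, hd, he⟩ := ih
        refine ⟨d * φ (u₀ ^ k * d), mul_mem hd ⟨_, rfl⟩, ?_⟩
        rw [Function.iterate_succ_apply', he, hσ, hu₀, ← mul_smul, apply_eq_diff_mul hU α, ← hφ,
          pow_succ]
        congr 1
        haveI : Std.Commutative (α := U) (· * ·) := ⟨hU⟩
        ac_rfl
    obtain ⟨d, hd, he⟩ := hiter n
    rw [hσn] at he
    have h1 : u₀ ^ n ∈ X ⊔ φ.range := by
      have h2 : u₀ ^ n * d ∈ X := (hX ω _).mp he.symm
      simpa using mul_mem (Subgroup.mem_sup_left h2) (inv_mem (Subgroup.mem_sup_right hd) :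
        d⁻¹ ∈ X ⊔ φ.range)
    haveI : (X ⊔ φ.range).Normal :=
      ⟨fun x hx g => by rw [hU g x, mul_inv_cancel_right]; exact hx⟩
    have h3 := pow_gcd_mem _ h1 (Subgroup.pow_index_mem (X ⊔ φ.range) u₀)
    rw [(hcop.coprime_dvd_right (Subgroup.index_dvd_of_le le_sup_left)).gcd_eq_one, pow_one,
      Subgroup.mem_sup_of_normal_left] at h3
    obtain ⟨x, hx, _, ⟨w, rfl⟩, hxw⟩ := h3
    refine ⟨w⁻¹, ?_⟩
    have hxfix : x • ω = ω := (hX ω x).mpr hx
    rw [hσ, hu₀, ← hxw, hU x, mul_smul, hxfix, ← mul_smul]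
    congr 1
    rw [map_inv, apply_eq_diff_mul hU α w, ← hφ, mul_inv_rev, mul_assoc, inv_mul_cancel, mul_one]
  choose pick hpick using hexists
  set K := X.comap φ with hK
  have hfixK : ∀ (f : Ω), σ f = f → ∀ v : U, σ (v • f) = v • f ↔ v ∈ K := by
    intro f hf v
    rw [hσ, hf, eq_comm, eq_inv_smul_iff.symm, ← mul_smul, eq_comm, hX, Subgroup.mem_comap,
      diff_apply, hU]
  let e : U × {ω : Ω // σ ω = ω} ≃ Ω × K :=
    { toFun := fun p => (p.1⁻¹ • p.2.1, ⟨p.1 * (pick (p.1⁻¹ • p.2.1))⁻¹,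
        (hfixK _ (hpick _) _).mp (by rw [mul_smul, inv_smul_smul, smul_inv_smul]; exact p.2.2)⟩)
      invFun := fun p => (p.2.1 * pick p.1, ⟨(p.2.1 * pick p.1) • p.1, by
        rw [mul_smul]; exact (hfixK _ (hpick _) _).mpr p.2.2⟩)
      left_inv := fun p => by simp
      right_inv := fun p => by
        have e1 : (p.2.1 * pick p.1)⁻¹ • (p.2.1 * pick p.1) • p.1 = p.1 := inv_smul_smul _ _
        ext <;> simp only [e1] <;> simp }
  have h1 := Nat.card_congr e
  rw [Nat.card_prod, Nat.card_prod, ← Subgroup.index_mul_card K, mul_comm K.index, mul_assoc,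
    mul_comm (Nat.card Ω)] at h1
  rw [← Subgroup.index_comap]
  exact (Nat.eq_of_mul_eq_mul_left Nat.card_pos h1).symm

end Diff

/-- Two nested sets of points with the same ratio of fixed points coincide. -/
theorem nested_eq {A B a b s t E : ℕ} (hE : 1 < E) (ha : 1 < a) (hba : b ∣ a) (hA : A = a * t)
    (hB : B = b * s) (hst : s ∣ t) (ht : 0 < t) (hs : 0 < s) (h1 : A - 1 = E * (B - 1))
    (h2 : a - 1 = E * (b - 1)) : A = a := by
  have hb : 1 < b := by
    rcases b with _ | _ | b <;> simp_all <;> omega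
  have hbs : 1 ≤ b * s := Nat.one_le_iff_ne_zero.mpr (Nat.mul_ne_zero (by omega) (by omega))
  have hat : 1 ≤ a * t := Nat.one_le_iff_ne_zero.mpr (Nat.mul_ne_zero (by omega) (by omega))
  obtain ⟨m, rfl⟩ := hba
  subst hA hB
  zify [hbs, hat, hb.le, ha.le] at h1 h2
  have hb1 : (0 : ℤ) < b := by exact_mod_cast (Nat.zero_lt_of_lt hb)
  have key : (b : ℤ) * m * (t - s) = m * t - m - s + 1 := by
    refine mul_left_cancel₀ hb1.ne' ?_
    linear_combination ((b : ℤ) - 1) * h1 - ((b : ℤ) * s - 1) * h2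
  obtain ⟨k, rfl⟩ := hst
  have hm : 2 ≤ m := by
    by_contra hm
    have hm' : m = 1 := by
      rcases m with _ | _ | m
      · simp at ha
      · rfl
      · omega
    subst hm'
    push_cast at h2
    have h3 : (E : ℤ) = 1 := mul_right_cancel₀ (b := (b : ℤ) - 1) (by omega) (by linarith)
    omega
  have hk : k ≠ 0 := by rintro rfl; simp at ht
  rcases Nat.lt_or_ge k 2 with hk2 | hk2
  · have : k = 1 := by omega
    subst this
    push_cast at key
    have h4 : ((m : ℤ) - 1) * ((s : ℤ) - 1) = 0 := by linarith [key]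
    rcases mul_eq_zero.mp h4 with h | h
    · omega
    · have : s = 1 := by omega
      simp [this]
  · exfalso
    push_cast at key
    have hs' : (1 : ℤ) ≤ s := by exact_mod_cast hs
    have hm'' : (2 : ℤ) ≤ m := by exact_mod_cast hm
    have hb' : (2 : ℤ) ≤ b := by exact_mod_cast hb
    have hk' : (2 : ℤ) ≤ k := by exact_mod_cast hk2
    have h5 : (m : ℤ) * (s * k) ≤ b * m * (s * k - s) := by
      have h6 : (s : ℤ) * k ≤ b * (s * k - s) := by
        have : (s : ℤ) * k ≤ 2 * (s * k - s) := by nlinarith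
        have h7 : (0 : ℤ) ≤ s * k - s := by nlinarith
        nlinarith
      nlinarith
    nlinarith

/-- Powers of one number with the same ratio of fixed points coincide. -/
theorem pow_eq {r d e d' e' E : ℕ} (hr : 1 < r) (hE : 1 < E) (hd : 0 < d) (hd' : 0 < d')
    (h1 : r ^ d - 1 = E * (r ^ e - 1)) (h2 : r ^ d' - 1 = E * (r ^ e' - 1)) : r ^ d = r ^ d' := by
  have hpos : ∀ k, 1 ≤ r ^ k := fun k => Nat.one_le_pow _ _ (by omega)
  have hlt : ∀ {d e : ℕ}, 0 < d → r ^ d - 1 = E * (r ^ e - 1) → e < d := by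
    intro d e hd h
    by_contra hle
    push Not at hle
    have h3 : r ^ d ≤ r ^ e := Nat.pow_le_pow_right (by omega) hle
    have h4 : 2 ≤ r ^ d := le_trans (by omega) (Nat.le_self_pow hd.ne' r)
    have h5 : 2 * (r ^ e - 1) ≤ E * (r ^ e - 1) := Nat.mul_le_mul_right _ hE
    omega
  have hrE : ¬ (r : ℤ) ∣ (E : ℤ) := by
    intro h
    have h3 : (r : ℤ) ∣ ((r ^ d - 1 : ℕ) : ℤ) := by
      rw [h1]; push_cast; exact dvd_mul_of_dvd_left h _
    rw [Nat.cast_sub (hpos d), Nat.cast_pow, Nat.cast_one] at h3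
    have h4 : (r : ℤ) ∣ 1 := by
      have := dvd_sub (dvd_pow_self (r : ℤ) hd.ne') h3
      simpa using this
    have := Int.le_of_dvd one_pos h4
    omega
  have key : ∀ {d e d' e' : ℕ}, e < d → e < e' → r ^ d - 1 = E * (r ^ e - 1) →
      r ^ d' - 1 = E * (r ^ e' - 1) → e' < d' → False := by
    intro d e d' e' hed hee h h' hed'
    apply hrE
    zify [hpos d, hpos e, hpos d', hpos e'] at h h'
    obtain ⟨i, rfl⟩ : ∃ i, d = e + (i + 1) := ⟨d - e - 1, by omega⟩
    obtain ⟨j, rfl⟩ : ∃ j, e' = e + (j + 1) := ⟨e' - e - 1, by omega⟩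
    obtain ⟨l, rfl⟩ : ∃ l, d' = e + (l + 1) := ⟨d' - e - 1, by omega⟩
    have h6 : (r : ℤ) ^ e * ((E : ℤ) - (r : ℤ) ^ (i + 1)) =
        (r : ℤ) ^ e * ((r : ℤ) * ((E : ℤ) * (r : ℤ) ^ j - (r : ℤ) ^ l)) := by
      simp only [pow_add, pow_one] at h h' ⊢
      linear_combination h' - h
    have h7 := mul_left_cancel₀ (pow_ne_zero _ (by exact_mod_cast (by omega : r ≠ 0))) h6
    exact ⟨(E : ℤ) * (r : ℤ) ^ j - (r : ℤ) ^ l + (r : ℤ) ^ i, by
      rw [pow_succ] at h7; linarith⟩
  rcases lt_trichotomy e e' with h | rfl | h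
  · exact (key (hlt hd h1) h h1 h2 (hlt hd' h2)).elim
  · have := hpos d
    have := hpos d'
    omega
  · exact (key (hlt hd' h2) h h2 h1 (hlt hd h1)).elim

end Cfsg.Agent.Lib.NoDivDegrees78.Abstract
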