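import Cfsg.Agent.Lib.RelDegrees87.Basic
import Cfsg.Agent.Lib.Clifford.Extension
import Cfsg.Agent.Lib.Frobenius.Nilpotent

/-!
# Characters above a complemented normal subgroup, with an automorphism fixing the nonlinear ones
-/

set_option autoImplicit false
set_option linter.unusedSectionVars false
set_option linter.style.haveILetI false

namespace Cfsg.Agent.Lib.NoDivDegrees78.Complement

open scoped ComplexConjugate commutatorElement
open Cfsg.Agent.Lib.Characters.Basic Cfsg.Agent.Lib.Induced.Basic Cfsg.Agent.Lib.BlocksChars5.Basic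
open Cfsg.Agent.Lib.Clifford.Basic
open Cfsg.Agent.Lib
open Cfsg.Agent.Lib.Frobenius.Nilpotent (restrictAut restrictAut_apply)

universe u

variable {H : Type u} [Group H]

/-- The degree of an irreducible character. -/
noncomputable abbrev deg {K : Type u} [Group K] (χ : Cfsg.IrrCharacter K) : ℕ :=
  Cfsg.charDegree (χ : K → ℂ)

/-- The hypotheses on the group and the automorphism. -/
structure Hyp (α : MulAut H) : Prop where
  inv : ∀ χ : Cfsg.IrrCharacter H, deg χ ≠ 1 → ∀ x, (χ : H → ℂ) (α x) = (χ : H → ℂ) x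
  cop : ∀ χ : Cfsg.IrrCharacter H, deg χ ≠ 1 → (orderOf α).Coprime (deg χ)
  nd : ∀ χ χ' : Cfsg.IrrCharacter H, deg χ ≠ 1 → deg χ' ≠ 1 → deg χ ∣ deg χ' → deg χ = deg χ'

theorem classInner_comp_equiv {A B : Type u} [Group A] [Group B] [Fintype A] [Fintype B]
    (f : A ≃* B) (φ ψ : B → ℂ) :
    Cfsg.classInner (φ ∘ f) (ψ ∘ f) = Cfsg.classInner φ ψ := by
  simp only [Cfsg.classInner, Function.comp_apply, Nat.card_congr f.toEquiv]
  congr 1
  exact Fintype.sum_equiv f.toEquiv _ _ fun a => rfl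

variable {M Q : Subgroup H} [M.Normal] (hc : Subgroup.IsComplement' M Q)

/-- The projection to the complement. -/
noncomputable def proj : H →* H :=
  Q.subtype.comp (hc.symm.QuotientMulEquiv.toMonoidHom.comp (QuotientGroup.mk' M))

theorem proj_mem (h : H) : proj hc h ∈ Q := SetLike.coe_mem _

theorem proj_mk (h : H) : ((proj hc h : H) : H ⧸ M) = (h : H ⧸ M) := by
  have e := hc.symm.QuotientMulEquiv.symm_apply_apply (h : H ⧸ M)
  refine Eq.trans ?_ e
  rfl

theorem proj_of_mem {u : H} (hu : u ∈ Q) : proj hc u = u := by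
  have h1 : (proj hc u)⁻¹ * u ∈ M := QuotientGroup.eq.mp (proj_mk hc u)
  exact inv_mul_eq_one.mp (Subgroup.disjoint_def.mp hc.disjoint h1
    (mul_mem (inv_mem (proj_mem hc u)) hu))

theorem proj_eq_one {m : H} (hm : m ∈ M) : proj hc m = 1 := by
  have h1 : (proj hc m)⁻¹ * m ∈ M := QuotientGroup.eq.mp (proj_mk hc m)
  refine Subgroup.disjoint_def.mp hc.disjoint ?_ (proj_mem hc m)
  simpa using mul_mem hm (inv_mem h1)

theorem mul_proj_inv_mem (h : H) : h * (proj hc h)⁻¹ ∈ M := by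
  have h1 : (proj hc h)⁻¹ * h ∈ M := QuotientGroup.eq.mp (proj_mk hc h)
  simpa [mul_assoc] using (inferInstance : M.Normal).conj_mem _ h1 (proj hc h)

theorem proj_unique {h u : H} (hu : u ∈ Q) (hm : h * u⁻¹ ∈ M) : proj hc h = u := by
  conv_lhs => rw [show h = (h * u⁻¹) * u by group]
  rw [map_mul, proj_eq_one hc hm, one_mul, proj_of_mem hc hu]

include hc in
/-- Commutators lie in `M` when the complement is abelian. -/
theorem commutator_mem (hQ : ∀ a ∈ Q, ∀ b ∈ Q, a * b = b * a) (a b : H) : ⁅a, b⁆ ∈ M := by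
  have h : proj hc ⁅a, b⁆ = 1 := by
    rw [map_commutatorElement, commutatorElement_eq_one_iff_mul_comm]
    exact hQ _ (proj_mem hc a) _ (proj_mem hc b)
  simpa [h] using mul_proj_inv_mem hc ⁅a, b⁆

variable [Finite H]

theorem le_inertia' (θ : Cfsg.IrrCharacter M) : M ≤ inertia M (θ : M → ℂ) :=
  le_inertia M (isClassFunction_irr θ)

include hc in
/-- The inertia group is controlled by the complement. -/
theorem proj_mem_inertia (θ : Cfsg.IrrCharacter M) {h : H} (hh : h ∈ inertia M (θ : M → ℂ)) :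
    proj hc h ∈ inertia M (θ : M → ℂ) := by
  have h1 := mul_mem (inv_mem (le_inertia' θ (mul_proj_inv_mem hc h))) hh
  simpa [mul_assoc] using h1

/-- An extension to the inertia group. -/
def Ext (θ : Cfsg.IrrCharacter M) (χ : Cfsg.IrrCharacter (inertia M (θ : M → ℂ))) : Prop :=
  ∀ m : M, (χ : inertia M (θ : M → ℂ) → ℂ) ⟨m, le_inertia' θ m.2⟩ = (θ : M → ℂ) m

/-- The complement part of the inertia group. -/
noncomputable def toStab (θ : Cfsg.IrrCharacter M) :
    inertia M (θ : M → ℂ) →* (Q ⊓ inertia M (θ : M → ℂ) : Subgroup H) :=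
  ((proj hc).comp (inertia M (θ : M → ℂ)).subtype).codRestrict _ fun x =>
    ⟨proj_mem hc _, proj_mem_inertia hc θ x.2⟩

theorem coe_toStab (θ : Cfsg.IrrCharacter M) (x : inertia M (θ : M → ℂ)) :
    ((toStab hc θ x : (Q ⊓ inertia M (θ : M → ℂ) : Subgroup H)) : H) = proj hc x := rfl

theorem toStab_surjective (θ : Cfsg.IrrCharacter M) : Function.Surjective (toStab hc θ) :=
  fun t => ⟨⟨t, (Subgroup.mem_inf.mp t.2).2⟩,
    Subtype.ext (proj_of_mem hc (Subgroup.mem_inf.mp t.2).1)⟩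

/-- A character of the stabiliser in the complement, read on the inertia group. -/
noncomputable def liftStab (θ : Cfsg.IrrCharacter M)
    (β : Cfsg.IrrCharacter (Q ⊓ inertia M (θ : M → ℂ) : Subgroup H)) :
    Cfsg.IrrCharacter (inertia M (θ : M → ℂ)) :=
  ⟨(β : (Q ⊓ inertia M (θ : M → ℂ) : Subgroup H) → ℂ) ∘ toStab hc θ, isIrrCharacter_comp _ (toStab_surjective hc θ) β.2⟩

theorem liftStab_apply (θ : Cfsg.IrrCharacter M)
    (β : Cfsg.IrrCharacter (Q ⊓ inertia M (θ : M → ℂ) : Subgroup H))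
    (x : inertia M (θ : M → ℂ)) :
    (liftStab hc θ β : _ → ℂ) x = (β : (Q ⊓ inertia M (θ : M → ℂ) : Subgroup H) → ℂ) (toStab hc θ x) := rfl

theorem toStab_eq_one (θ : Cfsg.IrrCharacter M) {x : inertia M (θ : M → ℂ)} (hx : (x : H) ∈ M) :
    toStab hc θ x = 1 := Subtype.ext (proj_eq_one hc hx)

theorem subgroupOf_irr (θ : Cfsg.IrrCharacter M) {χ : Cfsg.IrrCharacter (inertia M (θ : M → ℂ))}
    (hχ : Ext θ χ) : Cfsg.IsIrrCharacter (M.subgroupOf (inertia M (θ : M → ℂ)))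
      (fun n => (χ : inertia M (θ : M → ℂ) → ℂ) n) := by
  have h := isIrr_comp_equiv θ (Subgroup.subgroupOfEquivOfLe (le_inertia' θ))
  convert h using 1
  funext n
  rw [← hχ]
  rfl

/-- Every character of the stabiliser gives a character above `θ`. -/
theorem exists_over_ext [Fintype H] [Fintype M] (θ : Cfsg.IrrCharacter M)
    [Fintype (inertia M (θ : M → ℂ))]
    {χ : Cfsg.IrrCharacter (inertia M (θ : M → ℂ))} (hχ : Ext θ χ)
    (β : Cfsg.IrrCharacter (Q ⊓ inertia M (θ : M → ℂ) : Subgroup H)) :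
    ∃ (ψ : Cfsg.IrrCharacter H) (η : Cfsg.IrrCharacter (inertia M (θ : M → ℂ))),
      deg ψ = (inertia M (θ : M → ℂ)).index * (deg θ * deg β) ∧
      RelDegrees87.Basic.Over M ψ θ ∧
      (∀ x, (η : inertia M (θ : M → ℂ) → ℂ) x = (β : (Q ⊓ inertia M (θ : M → ℂ) : Subgroup H) → ℂ) (toStab hc θ x) * (χ : _ → ℂ) x) ∧
      (∀ m : M, (η : inertia M (θ : M → ℂ) → ℂ) ⟨m, le_inertia' θ m.2⟩ = (deg β : ℂ) * (θ : M → ℂ) m) ∧
      Cfsg.classInner (fun x : inertia M (θ : M → ℂ) => (ψ : H → ℂ) x) η ≠ 0 ∧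
      ∀ η' : Cfsg.IrrCharacter (inertia M (θ : M → ℂ)),
        Cfsg.classInner (fun x : inertia M (θ : M → ℂ) => (ψ : H → ℂ) x) η' ≠ 0 →
        (∀ m : M, (η' : inertia M (θ : M → ℂ) → ℂ) ⟨m, le_inertia' θ m.2⟩ = (deg β : ℂ) * (θ : M → ℂ) m) → η' = η := by
  classical
  set M' := M.subgroupOf (inertia M (θ : M → ℂ))
  haveI : M'.Normal := (inferInstance : M.Normal).subgroupOf (inertia M (θ : M → ℂ))
  have hker : M' ≤ charKer (liftStab hc θ β) := fun n hn => by
    rw [mem_charKer, liftStab_apply, liftStab_apply, toStab_eq_one hc θ (x := n) hn, map_one]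
  have hirr := BlocksChars5.Restrict.mul_irr_of_restrict_irr M' χ (liftStab hc θ β)
    (subgroupOf_irr θ hχ) hker
  set η : Cfsg.IrrCharacter (inertia M (θ : M → ℂ)) := ⟨_, hirr⟩ with hη
  have hηM : ∀ m : M, (η : (inertia M (θ : M → ℂ)) → ℂ) ⟨m, le_inertia' θ m.2⟩ = (deg β : ℂ) * (θ : M → ℂ) m := by
    intro m
    show (liftStab hc θ β : (inertia M (θ : M → ℂ)) → ℂ) _ * (χ : (inertia M (θ : M → ℂ)) → ℂ) _ = _
    rw [hχ, liftStab_apply, toStab_eq_one hc θ (x := ⟨m, le_inertia' θ m.2⟩) m.2, apply_one]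
  set incl : M →* (inertia M (θ : M → ℂ)) := Subgroup.inclusion (le_inertia' θ) with hincl
  have hinnM : ∀ η' : Cfsg.IrrCharacter (inertia M (θ : M → ℂ)),
      (∀ m : M, (η' : (inertia M (θ : M → ℂ)) → ℂ) ⟨m, le_inertia' θ m.2⟩ = (deg β : ℂ) * (θ : M → ℂ) m) →
      Cfsg.classInner ((η' : (inertia M (θ : M → ℂ)) → ℂ) ∘ incl) θ = (deg β : ℂ) := fun η' h => by
    have e : (η' : (inertia M (θ : M → ℂ)) → ℂ) ∘ incl = (deg β : ℂ) • (θ : M → ℂ) := funext fun m => h m
    rw [e, classInner_smul_left, classInner_self_irr, mul_one]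
  have hηd : deg η = deg θ * deg β := by
    have h1 := hηM 1
    have e : (⟨((1 : M) : H), le_inertia' θ (1 : M).2⟩ : (inertia M (θ : M → ℂ))) = 1 := rfl
    rw [e, apply_one, apply_one] at h1
    rw [mul_comm]
    exact_mod_cast h1
  have hind := Lib.Induced.Character.isCharacter_indFun (inertia M (θ : M → ℂ)) (isCharacter_irr η)
  obtain ⟨ψ, hψ⟩ := exists_constituent hind (fun h => by
      have h1 := congrFun h 1
      rw [indFun_one, Pi.zero_apply, mul_eq_zero] at h1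
      exact h1.elim (Nat.cast_ne_zero.mpr Subgroup.index_ne_zero_of_finite) (apply_one_ne_zero η))
  -- the upper bound
  obtain ⟨k, r, hr, hk, -, hsum⟩ := exists_eq_nsmul_add hind ψ
  have hk0 : k ≠ 0 := by rintro rfl; exact hψ (by rw [hk, Nat.cast_zero])
  have hle : deg ψ ≤ (inertia M (θ : M → ℂ)).index * (deg θ * deg β) := by
    obtain ⟨s, hs⟩ := exists_degree hr
    have h1 := congrFun hsum 1
    rw [indFun_one, Pi.add_apply, Pi.smul_apply, hs, nsmul_eq_mul, apply_one, apply_one] at h1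
    have h2 : (inertia M (θ : M → ℂ)).index * deg η = k * deg ψ + s := by exact_mod_cast h1
    rw [← hηd, h2]
    exact le_trans (Nat.le_mul_of_pos_left _ (Nat.pos_of_ne_zero hk0)) (Nat.le_add_right _ _)
  -- the multiplicity
  have hψη : Cfsg.classInner (fun x : (inertia M (θ : M → ℂ)) => (ψ : H → ℂ) x) η ≠ 0 := by
    rw [frobenius_reciprocity (inertia M (θ : M → ℂ)) _ (isClassFunction_irr ψ)] at hψ
    exact classInner_ne_zero_symm hψ
  obtain ⟨m, R, hR, hm, -, hres⟩ := exists_eq_nsmul_add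
    (isCharacter_comp (inertia M (θ : M → ℂ)).subtype (isCharacter_irr ψ)) η
  have hm0 : m ≠ 0 := by
    rintro rfl
    exact hψη (by rw [Nat.cast_zero] at hm; exact hm)
  obtain ⟨j, hj⟩ := exists_classInner_nat (isCharacter_comp incl hR) (isCharacter_irr θ)
  have hinner : Cfsg.classInner (fun n : M => (ψ : H → ℂ) n) θ = ((m * deg β + j : ℕ) : ℂ) := by
    have e : (fun n : M => (ψ : H → ℂ) n) = m • ((η : (inertia M (θ : M → ℂ)) → ℂ) ∘ incl) + R ∘ incl := by
      funext n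
      exact congrFun hres (incl n)
    rw [e, classInner_add_left, classInner_nsmul_left, hinnM η hηM, hj]
    push_cast
    rfl
  have hover : RelDegrees87.Basic.Over M ψ θ := by
    show Cfsg.classInner _ _ ≠ 0
    rw [hinner, Nat.cast_ne_zero]
    have : 0 < m * deg β := Nat.mul_pos (Nat.pos_of_ne_zero hm0) (degree_pos β)
    omega
  obtain ⟨e, -, he, hdeg⟩ := RelDegrees87.Basic.degree_eq M hover
  rw [hinner, Nat.cast_inj] at he
  replace hdeg : deg ψ = e * (inertia M (θ : M → ℂ)).index * deg θ := hdeg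
  have hpos : 0 < (inertia M (θ : M → ℂ)).index * deg θ :=
    Nat.mul_pos (Nat.pos_of_ne_zero Subgroup.index_ne_zero_of_finite) (degree_pos θ)
  have heb : e ≤ deg β := by
    refine Nat.le_of_mul_le_mul_left ?_ hpos
    calc (inertia M (θ : M → ℂ)).index * deg θ * e = deg ψ := by rw [hdeg]; ring
      _ ≤ _ := le_of_le_of_eq hle (by ring)
  have hbm : deg β ≤ m * deg β := Nat.le_mul_of_pos_left _ (Nat.pos_of_ne_zero hm0)
  have hj0 : j = 0 := by omega
  have heb' : e = deg β := by omega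
  refine ⟨ψ, η, by rw [hdeg, heb']; ring, hover, fun x => rfl, hηM, hψη, fun η' h1 h2 => ?_⟩
  by_contra hne
  have hRη : Cfsg.classInner R η' ≠ 0 := by
    have e1 : (fun x : (inertia M (θ : M → ℂ)) => (ψ : H → ℂ) x) = m • (η : (inertia M (θ : M → ℂ)) → ℂ) + R := hres
    rw [e1] at h1
    refine (classInner_add_ne_zero h1).resolve_left fun h3 => h3 ?_
    rw [classInner_nsmul_left, classInner_irr_of_ne fun h => hne h.symm, mul_zero]
  have h4 : Cfsg.classInner (R ∘ incl) θ ≠ 0 := classInner_comp_ne_zero incl hR hRη (by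
    rw [hinnM η' h2, Nat.cast_ne_zero]
    exact (degree_pos β).ne')
  exact h4 (by rw [hj, hj0, Nat.cast_zero])

/-- Clifford: the basic degree divides every degree above. -/
theorem index_mul_dvd [Fintype H] [Fintype M] {ψ : Cfsg.IrrCharacter H}
    {θ : Cfsg.IrrCharacter M} (h : RelDegrees87.Basic.Over M ψ θ) :
    (inertia M (θ : M → ℂ)).index * deg θ ∣ deg ψ := by
  obtain ⟨e, -, -, hdeg⟩ := RelDegrees87.Basic.degree_eq M h
  exact ⟨e, by rw [deg, hdeg]; ring⟩

include hc in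
/-- The basic degree occurs. -/
theorem exists_basic [Fintype H] [Fintype M] (θ : Cfsg.IrrCharacter M)
    {χ : Cfsg.IrrCharacter (inertia M (θ : M → ℂ))} (hχ : Ext θ χ) :
    ∃ ψ : Cfsg.IrrCharacter H, deg ψ = (inertia M (θ : M → ℂ)).index * deg θ ∧
      RelDegrees87.Basic.Over M ψ θ := by
  classical
  haveI := Fintype.ofFinite (inertia M (θ : M → ℂ))
  obtain ⟨ψ, -, h1, h2, -⟩ := exists_over_ext hc θ hχ (oneChar _)
  refine ⟨ψ, ?_, h2⟩
  rw [h1]
  simp [deg, Cfsg.charDegree, oneChar_apply]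

variable {α : MulAut H} (hyp : Hyp α)

include hc hyp in
/-- The stabiliser in the complement is abelian. -/
theorem abelian_stab [Fintype H] [Fintype M] (θ : Cfsg.IrrCharacter M)
    {χ : Cfsg.IrrCharacter (inertia M (θ : M → ℂ))} (hχ : Ext θ χ)
    (hne : (inertia M (θ : M → ℂ)).index * deg θ ≠ 1) :
    ∀ a ∈ Q ⊓ inertia M (θ : M → ℂ), ∀ b ∈ Q ⊓ inertia M (θ : M → ℂ), a * b = b * a := by
  classical
  haveI := Fintype.ofFinite (inertia M (θ : M → ℂ))
  haveI := Fintype.ofFinite (Q ⊓ inertia M (θ : M → ℂ) : Subgroup H)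
  obtain ⟨ψ₀, h₀, -⟩ := exists_basic hc θ hχ
  have hone : ∀ β : Cfsg.IrrCharacter (Q ⊓ inertia M (θ : M → ℂ) : Subgroup H), deg β = 1 := by
    intro β
    obtain ⟨ψ, -, h1, -⟩ := exists_over_ext hc θ hχ β
    rw [← mul_assoc] at h1
    have h0 : deg ψ₀ ≠ 1 := h₀ ▸ hne
    have hψ : deg ψ ≠ 1 := fun h => h0 (Nat.eq_one_of_dvd_one (h₀ ▸ h ▸ h1 ▸ dvd_mul_right _ _))
    have h2 := hyp.nd ψ₀ ψ h0 hψ (h₀ ▸ h1 ▸ dvd_mul_right _ _)
    rw [h₀, h1] at h2
    exact (Nat.mul_eq_left (by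
      exact Nat.mul_ne_zero Subgroup.index_ne_zero_of_finite (degree_pos θ).ne')).mp h2.symm
  intro a ha b hb
  have h := Characters.Complete.eq_one_of_forall_irr (G := (Q ⊓ inertia M (θ : M → ℂ) : Subgroup H))
    (g := ⁅(⟨a, ha⟩ : (Q ⊓ inertia M (θ : M → ℂ) : Subgroup H)), ⟨b, hb⟩⁆) fun β => by
    have h1 : (β : (Q ⊓ inertia M (θ : M → ℂ) : Subgroup H) → ℂ) 1 = 1 := by rw [apply_one]; simp [show Cfsg.charDegree (β : (Q ⊓ inertia M (θ : M → ℂ) : Subgroup H) → ℂ) = 1 from hone β]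
    have hf := Characters.Linear.degOneHom_apply (isCharacter_irr β) h1
    rw [← hf, map_commutatorElement, commutatorElement_eq_one_iff_mul_comm.mpr (mul_comm _ _),
      Units.val_one, h1]
  exact congrArg Subtype.val (commutatorElement_eq_one_iff_mul_comm.mp h)

include hc hyp in
/-- With an abelian complement, a nonlinear character above `θ` has the basic degree. -/
theorem degree_eq_basic [Fintype H] [Fintype M] (hQ : ∀ a ∈ Q, ∀ b ∈ Q, a * b = b * a)
    (θ : Cfsg.IrrCharacter M) {χ : Cfsg.IrrCharacter (inertia M (θ : M → ℂ))} (hχ : Ext θ χ)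
    {ψ : Cfsg.IrrCharacter H} (hψ : RelDegrees87.Basic.Over M ψ θ) (hne : deg ψ ≠ 1) :
    deg ψ = (inertia M (θ : M → ℂ)).index * deg θ ∧
      (inertia M (θ : M → ℂ)).index * deg θ ≠ 1 := by
  classical
  obtain ⟨ψ₀, h₀, -⟩ := exists_basic hc θ hχ
  suffices hb : (inertia M (θ : M → ℂ)).index * deg θ ≠ 1 from
    ⟨by rw [← h₀]; exact (hyp.nd ψ₀ ψ (h₀ ▸ hb) hne (h₀ ▸ index_mul_dvd hψ)).symm, hb⟩
  intro hb
  obtain ⟨hidx, hθ⟩ := mul_eq_one.mp hb
  have htop : inertia M (θ : M → ℂ) = ⊤ := Subgroup.index_eq_one.mp hidx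
  have hinv : ∀ g, conjC M g (θ : M → ℂ) = θ := fun g =>
    (mem_inertia M).mp (htop ▸ Subgroup.mem_top g)
  have hres := restrict_eq_smul M ψ.2 θ hψ hinv
  have hχ1 : (χ : inertia M (θ : M → ℂ) → ℂ) 1 = 1 := by
    have h1 : (χ : inertia M (θ : M → ℂ) → ℂ) 1 = (θ : M → ℂ) 1 := hχ 1
    rw [h1, apply_one, show Cfsg.charDegree (θ : M → ℂ) = 1 from hθ, Nat.cast_one]
  set f := Characters.Linear.degOneHom (isCharacter_irr χ) hχ1
  have hker : commutator H ≤ charKer ψ := by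
    haveI := charKer_normal ψ
    rw [commutator_def, Subgroup.commutator_le]
    intro a _ b _
    have hm := commutator_mem hc hQ a b
    have h1 : (θ : M → ℂ) ⟨⁅a, b⁆, hm⟩ = 1 := by
      rw [← hχ, ← Characters.Linear.degOneHom_apply (isCharacter_irr χ) hχ1,
        show (⟨⁅a, b⁆, le_inertia' θ hm⟩ : inertia M (θ : M → ℂ)) =
          ⁅(⟨a, htop ▸ Subgroup.mem_top a⟩ : inertia M (θ : M → ℂ)),
            ⟨b, htop ▸ Subgroup.mem_top b⟩⁆ from rfl,
        map_commutatorElement, commutatorElement_eq_one_iff_mul_comm.mpr (mul_comm _ _),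
        Units.val_one]
    have h2 := congrFun hres ⟨⁅a, b⁆, hm⟩
    have h3 := congrFun hres 1
    simp only [Pi.smul_apply, smul_eq_mul, h1, mul_one, OneMemClass.coe_one] at h2 h3
    rw [mem_charKer, h2, h3, apply_one θ, show Cfsg.charDegree (θ : M → ℂ) = 1 from hθ,
      Nat.cast_one, mul_one]
  obtain ⟨ψ', hψ'⟩ := exists_deflate ψ (commutator H) hker
  have h1 := BlocksChars5.Basic.degree_eq_one_of_comm ψ' fun x y => mul_comm (G := Abelianization H) x y
  apply hne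
  have h2 : (ψ : H → ℂ) 1 = 1 := by rw [← hψ', inflate_apply, QuotientGroup.mk_one, h1]
  rw [apply_one] at h2
  exact_mod_cast h2

include hc hyp in
/-- The stabiliser of a character with a nonlinear character above it is fixed pointwise. -/
theorem fixed_of_stab [Fintype H] [Fintype M] (hαM : ∀ x ∈ M, α x ∈ M) (hαQ : ∀ x ∈ Q, α x ∈ Q)
    (hQ : ∀ a ∈ Q, ∀ b ∈ Q, a * b = b * a) (θ : Cfsg.IrrCharacter M)
    {χ : Cfsg.IrrCharacter (inertia M (θ : M → ℂ))} (hχ : Ext θ χ)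
    (hne : (inertia M (θ : M → ℂ)).index * deg θ ≠ 1) :
    ∀ u ∈ Q, u ∈ inertia M (θ : M → ℂ) → α u = u := by
  classical
  haveI := Fintype.ofFinite (inertia M (θ : M → ℂ))
  haveI : (M.subgroupOf (inertia M (θ : M → ℂ))).Normal := (inferInstance : M.Normal).subgroupOf (inertia M (θ : M → ℂ))
  haveI := Fintype.ofFinite (Q ⊓ (inertia M (θ : M → ℂ)) : Subgroup H)
  obtain ⟨ψ₀, h₀, hov₀⟩ := exists_basic hc θ hχ
  have hinv₀ := hyp.inv ψ₀ (h₀ ▸ hne)
  set αM := restrictAut α M hαM with hαMdef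
  let θα : Cfsg.IrrCharacter M := ⟨_, isIrr_comp_equiv θ αM⟩
  have hovα : Cfsg.classInner (fun n : M => (ψ₀ : H → ℂ) n) θα ≠ 0 := by
    have e1 : (fun n : M => (ψ₀ : H → ℂ) n) = (fun n : M => (ψ₀ : H → ℂ) n) ∘ αM :=
      funext fun n => by
        show (ψ₀ : H → ℂ) n = (ψ₀ : H → ℂ) ((αM n : M) : H)
        rw [hαMdef, restrictAut_apply, hinv₀]
    rw [e1]
    show Cfsg.classInner _ ((θ : M → ℂ) ∘ αM) ≠ 0
    rw [classInner_comp_equiv]
    exact hov₀
  obtain ⟨g, hg⟩ := exists_conj_of_constituents M ψ₀.2 hov₀ hovα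
  set u₀ := proj hc g with hu₀
  have hg' : conjC M u₀ (θ : M → ℂ) = θα := by
    rw [← hg]
    conv_rhs => rw [show g = g * u₀⁻¹ * u₀ by group, conjC_mul,
      conjC_of_mem M (isClassFunction_irr θ) (mul_proj_inv_mem hc g)]
  have hu₀Q : u₀ ∈ Q := proj_mem hc g
  set α' : MulAut H := (MulAut.conj u₀⁻¹).trans α with hα'
  have hα'a : ∀ x, α' x = α (u₀⁻¹ * x * u₀) := fun x => by simp [hα']
  have hα'M : ∀ x ∈ M, α' x ∈ M := fun x hx => by
    rw [hα'a]
    exact hαM _ (by simpa using (inferInstance : M.Normal).conj_mem x hx u₀⁻¹)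
  have hθ' : ∀ (m : M), (θ : M → ℂ) ⟨α' m, hα'M m m.2⟩ = (θ : M → ℂ) m := by
    intro m
    have hmem : u₀⁻¹ * (m : H) * u₀ ∈ M := by
      simpa using (inferInstance : M.Normal).conj_mem _ m.2 u₀⁻¹
    have h1 := congrFun hg' ⟨u₀⁻¹ * (m : H) * u₀, hmem⟩
    rw [conjC_apply] at h1
    have e1 : (⟨α' m, hα'M m m.2⟩ : M) = αM ⟨u₀⁻¹ * (m : H) * u₀, hmem⟩ :=
      Subtype.ext (by rw [hαMdef, restrictAut_apply]; exact hα'a m)
    rw [e1]
    exact h1.symm.trans (congrArg _ (Subtype.ext (by simp [mul_assoc])))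
  have hα'I : ∀ x ∈ (inertia M (θ : M → ℂ)), α' x ∈ (inertia M (θ : M → ℂ)) := by
    intro x hx
    rw [mem_inertia]
    funext m
    obtain ⟨m', hm'⟩ := (restrictAut α' M hα'M).surjective m
    have hm'' : α' (m' : H) = (m : H) := by rw [← hm']; rfl
    rw [conjC_apply, ← hm']
    have e1 : (⟨α' x * ((restrictAut α' M hα'M m' : M) : H) * (α' x)⁻¹,
        (inferInstance : M.Normal).conj_mem _ (restrictAut α' M hα'M m').2 _⟩ : M) =
        ⟨α' (x * m' * x⁻¹), hα'M _ ((inferInstance : M.Normal).conj_mem _ m'.2 x)⟩ :=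
      Subtype.ext (by simp [restrictAut_apply])
    rw [e1, hθ' ⟨x * m' * x⁻¹, (inferInstance : M.Normal).conj_mem _ m'.2 x⟩,
      show (restrictAut α' M hα'M m' : M) = ⟨α' m', hα'M _ m'.2⟩ from rfl, hθ' m']
    exact congrFun ((mem_inertia M).mp hx) m'
  set αI := restrictAut α' (inertia M (θ : M → ℂ)) hα'I with hαI
  have key : ∀ β : Cfsg.IrrCharacter (Q ⊓ (inertia M (θ : M → ℂ)) : Subgroup H), ∀ x : (inertia M (θ : M → ℂ)),
      (β : (Q ⊓ inertia M (θ : M → ℂ) : Subgroup H) → ℂ) (toStab hc θ (αI x)) * (χ : (inertia M (θ : M → ℂ)) → ℂ) (αI x) =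
        (β : (Q ⊓ inertia M (θ : M → ℂ) : Subgroup H) → ℂ) (toStab hc θ x) * (χ : (inertia M (θ : M → ℂ)) → ℂ) x := by
    intro β
    have hcomm : ∀ a b : (Q ⊓ (inertia M (θ : M → ℂ)) : Subgroup H), a * b = b * a := fun a b =>
      Subtype.ext (hQ _ (Subgroup.mem_inf.mp a.2).1 _ (Subgroup.mem_inf.mp b.2).1)
    have hβ : deg β = 1 := by
      have h1 := Characters.Linear.degree_eq_one_of_comm hcomm β
      rw [apply_one] at h1
      exact_mod_cast h1
    obtain ⟨ψ, η, hdeg, -, hη, hηM, hψη, huniq⟩ := exists_over_ext hc θ hχ β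
    have hψne : deg ψ ≠ 1 := by rwa [hdeg, hβ, mul_one]
    let η' : Cfsg.IrrCharacter (inertia M (θ : M → ℂ)) := ⟨_, isIrr_comp_equiv η αI⟩
    have h1 : Cfsg.classInner (fun x : (inertia M (θ : M → ℂ)) => (ψ : H → ℂ) x) η' ≠ 0 := by
      have e1 : (fun x : (inertia M (θ : M → ℂ)) => (ψ : H → ℂ) x) = (fun x : (inertia M (θ : M → ℂ)) => (ψ : H → ℂ) x) ∘ αI :=
        funext fun x => by
          show (ψ : H → ℂ) x = (ψ : H → ℂ) ((αI x : (inertia M (θ : M → ℂ))) : H)
          rw [hαI, restrictAut_apply, hα'a, hyp.inv ψ hψne]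
          exact (conj_invariant ψ x u₀⁻¹).symm.trans (by rw [inv_inv])
      rw [e1]
      show Cfsg.classInner _ ((η : (inertia M (θ : M → ℂ)) → ℂ) ∘ αI) ≠ 0
      rw [classInner_comp_equiv]
      exact hψη
    have h2 := huniq η' h1 fun m => by
      have e1 : αI ⟨m, le_inertia' θ m.2⟩ = ⟨α' m, le_inertia' θ (hα'M m m.2)⟩ := rfl
      show (η : (inertia M (θ : M → ℂ)) → ℂ) (αI _) = _
      rw [e1, ← hθ' m]
      exact hηM ⟨α' m, hα'M m m.2⟩
    intro x
    rw [← hη, ← hη]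
    exact congrFun (congrArg Subtype.val h2) x
  intro u hu huI
  set t : (Q ⊓ (inertia M (θ : M → ℂ)) : Subgroup H) := ⟨u, hu, huI⟩
  have hαu : α' u = α u := by
    rw [hα'a, hQ _ (inv_mem hu₀Q) _ hu, mul_assoc, inv_mul_cancel, mul_one]
  set t' : (Q ⊓ (inertia M (θ : M → ℂ)) : Subgroup H) := ⟨α u, hαQ u hu, hαu ▸ hα'I u huI⟩
  have hirr : Cfsg.IsIrrCharacter (M.subgroupOf (inertia M (θ : M → ℂ))) (fun _ => (1 : ℂ)) := (oneChar _).2
  haveI := Fintype.ofFinite (M.subgroupOf (inertia M (θ : M → ℂ)))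
  have hχirr := subgroupOf_irr θ hχ
  have hgal := Clifford.Gallagher.gallagher (M.subgroupOf (inertia M (θ : M → ℂ))) (fun _ => (1 : ℂ))
    (fun n => (χ : (inertia M (θ : M → ℂ)) → ℂ) n) hirr (fun g => rfl)
    (conjC_restrict _ (isClassFunction_irr χ))
    (by convert hχirr using 1; funext k; show (1 : ℂ) * _ = _; exact one_mul _) χ.2 (fun _ => rfl)
  have hχα : ∀ x, (χ : (inertia M (θ : M → ℂ)) → ℂ) (αI x) = (χ : (inertia M (θ : M → ℂ)) → ℂ) x := fun x => by
    have h := key (oneChar _) x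
    simpa [oneChar_apply] using h
  have hβeq : ∀ β : Cfsg.IrrCharacter (Q ⊓ (inertia M (θ : M → ℂ)) : Subgroup H), (β : (Q ⊓ inertia M (θ : M → ℂ) : Subgroup H) → ℂ) t' = (β : (Q ⊓ inertia M (θ : M → ℂ) : Subgroup H) → ℂ) t := by
    intro β
    let β₁ : Cfsg.IrrCharacter (inertia M (θ : M → ℂ)) := ⟨_, isIrr_comp_equiv (liftStab hc θ β) αI⟩
    have hov : ∀ γ : Cfsg.IrrCharacter (inertia M (θ : M → ℂ)), M.subgroupOf (inertia M (θ : M → ℂ)) ≤ charKer γ →
        Cfsg.classInner (Cfsg.indFun (M.subgroupOf (inertia M (θ : M → ℂ))) fun _ => (1 : ℂ)) γ ≠ 0 :=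
      fun γ h => BlocksChars5.Restrict.over_one _ γ h
    have hk : ∀ n : (inertia M (θ : M → ℂ)), (n : H) ∈ M → toStab hc θ n = 1 := fun n hn => toStab_eq_one hc θ hn
    have h := hgal.2.1 β₁ (liftStab hc θ β)
      (hov _ fun n hn => by
        rw [mem_charKer]
        show (β : (Q ⊓ inertia M (θ : M → ℂ) : Subgroup H) → ℂ) (toStab hc θ (αI n)) = (β : (Q ⊓ inertia M (θ : M → ℂ) : Subgroup H) → ℂ) (toStab hc θ (αI 1))
        rw [hk _ (hα'M _ hn), map_one, map_one])
      (hov _ fun n hn => by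
        rw [mem_charKer, liftStab_apply, liftStab_apply, hk _ hn, map_one])
      (funext fun x => by
        show (β : (Q ⊓ inertia M (θ : M → ℂ) : Subgroup H) → ℂ) (toStab hc θ (αI x)) * (χ : (inertia M (θ : M → ℂ)) → ℂ) x =
          (β : (Q ⊓ inertia M (θ : M → ℂ) : Subgroup H) → ℂ) (toStab hc θ x) * (χ : (inertia M (θ : M → ℂ)) → ℂ) x
        rw [← key β x, hχα])
    have h2 := congrFun (congrArg Subtype.val h) ⟨u, huI⟩
    have e1 : toStab hc θ (αI ⟨u, huI⟩) = t' := Subtype.ext (by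
      rw [coe_toStab, hαI, restrictAut_apply]
      show proj hc (α' u) = α u
      rw [hαu, proj_of_mem hc (hαQ u hu)])
    have e2 : toStab hc θ ⟨u, huI⟩ = t := Subtype.ext (proj_of_mem hc hu)
    change (β : (Q ⊓ inertia M (θ : M → ℂ) : Subgroup H) → ℂ) (toStab hc θ (αI ⟨u, huI⟩)) = (β : (Q ⊓ inertia M (θ : M → ℂ) : Subgroup H) → ℂ) (toStab hc θ ⟨u, huI⟩) at h2
    rwa [e1, e2] at h2
  have hfin := Characters.Complete.eq_one_of_forall_irr (G := (Q ⊓ inertia M (θ : M → ℂ) : Subgroup H)) (g := t⁻¹ * t') fun β => by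
    have hb : (β : (Q ⊓ inertia M (θ : M → ℂ) : Subgroup H) → ℂ) 1 = 1 := Characters.Linear.degree_eq_one_of_comm
      (fun a b => Subtype.ext (hQ _ (Subgroup.mem_inf.mp a.2).1 _ (Subgroup.mem_inf.mp b.2).1)) β
    rw [Characters.Linear.apply_mul_of_degree_one (isCharacter_irr β) hb, hβeq,
      ← Characters.Linear.apply_mul_of_degree_one (isCharacter_irr β) hb, inv_mul_cancel]
  exact (congrArg Subtype.val (inv_mul_eq_one.mp hfin)).symm

omit [M.Normal] in
/-- Extension of an invariant character with coprime degree and determinantal order. -/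
theorem exists_extension {I : Type u} [Group I] [Finite I] (N : Subgroup I) [hN : N.Normal]
    (φ : Cfsg.IrrCharacter N) (hinv : ∀ g : I, conjC N g (φ : N → ℂ) = φ)
    (hd : N.index.Coprime (deg φ))
    (hdet : ∀ lam : N →* ℂˣ, Clifford.Linear.toFunHom lam = Cfsg.detChar (φ : N → ℂ) →
      N.index.Coprime (orderOf lam)) :
    ∃ χ : Cfsg.IrrCharacter I, ∀ n : N, (χ : I → ℂ) n = (φ : N → ℂ) n := by
  obtain ⟨k, ρ, hρ, hρc⟩ := φ.2
  haveI := hρ
  have hlam : Clifford.Linear.toFunHom (Clifford.Rep.detHom ρ) = Cfsg.detChar (φ : N → ℂ) := by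
    rw [← hρc, Clifford.Rep.detChar_eq ρ]
    rfl
  have hinvl : ∀ (g : I) (n : N), Clifford.Rep.detHom ρ ⟨g * n * g⁻¹, hN.conj_mem (n : I) n.2 g⟩ =
      Clifford.Rep.detHom ρ n := by
    intro g n
    refine Units.ext ?_
    rw [Clifford.Rep.detHom_apply, Clifford.Rep.detHom_apply]
    exact Clifford.Rep.det_eq_of_char ρ (ρ.comp (MulAut.conjNormal g : MulAut N).toMonoidHom)
      (funext fun m => by
        show ρ.character (MulAut.conjNormal g m) = ρ.character m
        have h1 := congrFun (hinv g) m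
        rw [conjC_apply, ← hρc] at h1
        exact h1) n
  obtain ⟨μ, hμ, -⟩ := Clifford.Linear.exists_coprime_extension N (Clifford.Rep.detHom ρ) hinvl
    (hdet _ hlam)
  obtain ⟨f, hf, hfN, -⟩ := Clifford.Extension.exists_extension_char N φ.2
    (fun g n => congrFun (hinv g) n) (apply_one φ) hd μ
    (fun n => by rw [hμ, ← hlam]; rfl)
  exact ⟨⟨f, hf⟩, hfN⟩

/-- Coprime extension to the inertia group. -/
theorem exists_ext_of_coprime (hcop : (Nat.card M).Coprime M.index) (θ : Cfsg.IrrCharacter M) :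
    ∃ χ : Cfsg.IrrCharacter (inertia M (θ : M → ℂ)), Ext θ χ := by
  classical
  haveI : (M.subgroupOf (inertia M (θ : M → ℂ))).Normal :=
    (inferInstance : M.Normal).subgroupOf _
  set e := Subgroup.subgroupOfEquivOfLe (le_inertia' θ)
  let φ : Cfsg.IrrCharacter (M.subgroupOf (inertia M (θ : M → ℂ))) := ⟨_, isIrr_comp_equiv θ e⟩
  have hφd : deg φ = deg θ := BlocksChars5.Basic.charDegree_congr (by
    show (θ : M → ℂ) (e 1) = _
    rw [map_one])
  have hidx : (M.subgroupOf (inertia M (θ : M → ℂ))).index ∣ M.index :=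
    Subgroup.relIndex_dvd_index_of_le (le_inertia' θ)
  have hdθ : deg θ ∣ Nat.card M := by
    haveI := Fintype.ofFinite M
    exact degree_dvd_card θ
  obtain ⟨χ, hχ⟩ := exists_extension (M.subgroupOf (inertia M (θ : M → ℂ))) φ
    (fun g => funext fun n => by
      rw [conjC_apply]
      exact congrFun ((mem_inertia M).mp g.2) (e n))
    (by rw [hφd]; exact (hcop.symm.coprime_dvd_left hidx).coprime_dvd_right hdθ)
    (fun lam _ => by
      refine (hcop.symm.coprime_dvd_left hidx).coprime_dvd_right ?_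
      rw [← Nat.card_congr e.toEquiv]
      refine orderOf_dvd_of_pow_eq_one (MonoidHom.ext fun n => ?_)
      rw [MonoidHom.pow_apply, ← map_pow, pow_card_eq_one', map_one, MonoidHom.one_apply])
  exact ⟨χ, fun m => hχ ⟨⟨m, le_inertia' θ m.2⟩, m.2⟩⟩

end Cfsg.Agent.Lib.NoDivDegrees78.Complement
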