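import Cfsg.Agent.Lib.NoDivDegrees78.Abstract
import Mathlib.GroupTheory.GroupAction.Quotient

/-!
# Counting in an abelian group whose nontrivial elements share their stabiliser
-/

set_option autoImplicit false
set_option linter.unusedSectionVars false
set_option linter.style.haveILetI false

namespace Cfsg.Agent.Lib.NoDivDegrees78.Count

open Cfsg.Agent.Lib.NoDivDegrees78

universe u v

variable {U : Type u} [Group U] [Finite U] {V : Type v} [CommGroup V] [Finite V]
  (act : U →* MulAut V) (X : Subgroup U)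

theorem card_points (P : Subgroup V) :
    Nat.card {x : V // x ∈ P ∧ x ≠ 1} = Nat.card P - 1 := by
  refine ((Nat.card_coe_set_eq ((P : Set V) \ {1})).trans
    (Set.ncard_sdiff_singleton_of_mem (s := (P : Set V)) (a := 1) P.one_mem)).trans ?_
  rw [← Nat.card_coe_set_eq]
  rfl

/-- The orbit length divides the number of nontrivial elements. -/
theorem index_dvd (hX : ∀ x : V, x ≠ 1 → ∀ u, act u x = x ↔ u ∈ X) :
    X.index ∣ Nat.card V - 1 := by
  classical
  letI : MulAction U {x : V // x ∈ (⊤ : Subgroup V) ∧ x ≠ 1} :=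
    { smul := fun u x => ⟨act u x.1, Subgroup.mem_top _, fun h => x.2.2 ((map_eq_one_iff _ (act u).injective).mp h)⟩
      one_smul := fun x => Subtype.ext (by show act 1 x.1 = x.1; rw [map_one]; rfl)
      mul_smul := fun a b x => Subtype.ext (by show act (a * b) x.1 = act a (act b x.1); rw [map_mul]; rfl) }
  rw [← Subgroup.card_top (G := V), ← card_points]
  haveI := Fintype.ofFinite (Quotient (MulAction.orbitRel U {x : V // x ∈ (⊤ : Subgroup V) ∧ x ≠ 1}))
  rw [Nat.card_congr (MulAction.selfEquivSigmaOrbits U _), Nat.card_sigma]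
  refine Finset.dvd_sum fun ω _ => ?_
  have hst : MulAction.stabilizer U ω.out = X := by
    ext u
    rw [MulAction.mem_stabilizer_iff]
    exact ⟨fun h => (hX _ ω.out.2.2 u).mp (congrArg Subtype.val h),
      fun h => Subtype.ext ((hX _ ω.out.2.2 u).mpr h)⟩
  rw [Nat.card_coe_set_eq, ← MulAction.index_stabilizer U ω.out, hst]

variable (hU : ∀ a b : U, a * b = b * a) (α : U ≃* U) (σ : V ≃* V)

/-- Fixed points in an invariant subgroup. -/
theorem card_sub_one (hX : ∀ x : V, x ≠ 1 → ∀ u, act u x = x ↔ u ∈ X)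
    (hσ : ∀ u x, σ (act u x) = act (α u) (σ x)) (horb : ∀ x : V, x ≠ 1 → ∃ u, σ x = act u x)
    {n : ℕ} (hσn : ∀ x, (⇑σ)^[n] x = x) (hcop : n.Coprime X.index) (P : Subgroup V)
    (hP : ∀ u, ∀ x ∈ P, act u x ∈ P) :
    Nat.card P - 1 = X.relIndex (Abstract.diff hU α).range *
      (Nat.card (P ⊓ MonoidHom.eqLocus (σ : V →* V) (MonoidHom.id V) : Subgroup V) - 1) := by
  classical
  letI : MulAction U {x : V // x ∈ P ∧ x ≠ 1} :=
    { smul := fun u x => ⟨act u x.1, hP u _ x.2.1, fun h => x.2.2 ((map_eq_one_iff _ (act u).injective).mp h)⟩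
      one_smul := fun x => Subtype.ext (by show act 1 x.1 = x.1; rw [map_one]; rfl)
      mul_smul := fun a b x => Subtype.ext (by show act (a * b) x.1 = act a (act b x.1); rw [map_mul]; rfl) }
  have hσP : ∀ x ∈ P, x ≠ 1 → σ x ∈ P ∧ σ x ≠ 1 := fun x hx hx1 => by
    obtain ⟨u, hu⟩ := horb x hx1
    exact ⟨hu ▸ hP u x hx, fun h => hx1 ((map_eq_one_iff _ σ.injective).mp h)⟩
  let τ : {x : V // x ∈ P ∧ x ≠ 1} → {x : V // x ∈ P ∧ x ≠ 1} :=
    fun x => ⟨σ x.1, hσP x.1 x.2.1 x.2.2⟩
  have hτ : ∀ (k : ℕ) x, ((τ^[k] x : {x : V // x ∈ P ∧ x ≠ 1}) : V) = (⇑σ)^[k] x.1 := by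
    intro k
    induction k with
    | zero => intro x; rfl
    | succ k ih =>
      intro x
      rw [Function.iterate_succ_apply', Function.iterate_succ_apply', ← ih]
  have h := Abstract.orbit_count hU α (Ω := {x : V // x ∈ P ∧ x ≠ 1}) X
    (fun x u => ⟨fun h => (hX _ x.2.2 u).mp (congrArg Subtype.val h),
      fun h => Subtype.ext ((hX _ x.2.2 u).mpr h)⟩) τ
    (fun u x => Subtype.ext (hσ u x.1))
    (fun x => by obtain ⟨u, hu⟩ := horb x.1 x.2.2; exact ⟨u, Subtype.ext hu⟩)
    (fun x => Subtype.ext ((hτ n x).trans (hσn _))) hcop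
  rw [card_points] at h
  rw [h, ← card_points]
  congr 1
  refine Nat.card_congr
    { toFun := fun x => ⟨x.1.1, Subgroup.mem_inf.mpr ⟨x.1.2.1, congrArg Subtype.val x.2⟩, x.1.2.2⟩
      invFun := fun x => ⟨⟨x.1, (Subgroup.mem_inf.mp x.2.1).1, x.2.2⟩,
        Subtype.ext (Subgroup.mem_inf.mp x.2.1).2⟩
      left_inv := fun _ => rfl
      right_inv := fun _ => rfl }

/-- With a nontrivial ratio, there is no proper nontrivial invariant subgroup. -/
theorem eq_top_of_invariant (hX : ∀ x : V, x ≠ 1 → ∀ u, act u x = x ↔ u ∈ X)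
    (hσ : ∀ u x, σ (act u x) = act (α u) (σ x)) (horb : ∀ x : V, x ≠ 1 → ∃ u, σ x = act u x)
    {n : ℕ} (hσn : ∀ x, (⇑σ)^[n] x = x) (hcop : n.Coprime X.index)
    (hE : 1 < X.relIndex (Abstract.diff hU α).range) {P : Subgroup V}
    (hP : ∀ u, ∀ x ∈ P, act u x ∈ P) (hne : P ≠ ⊥) : P = ⊤ := by
  set F := MonoidHom.eqLocus (σ : V →* V) (MonoidHom.id V) with hF
  have h1 := card_sub_one act X hU α σ hX hσ horb hσn hcop P hP
  have h2 := card_sub_one act X hU α σ hX hσ horb hσn hcop ⊤ fun _ _ _ => Subgroup.mem_top _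
  rw [top_inf_eq, Subgroup.card_top] at h2
  rw [← hF] at h1 h2
  have ha : 1 < Nat.card P := (Subgroup.one_lt_card_iff_ne_bot P).mpr hne
  haveI : (P ⊓ F).Normal := ⟨fun x hx g => by simpa using hx⟩
  have hF' := Subgroup.relIndex_mul_relIndex (⊥ : Subgroup V) (P ⊓ F) F bot_le inf_le_right
  rw [Subgroup.relIndex_bot_left, Subgroup.relIndex_bot_left, Subgroup.inf_relIndex_right] at hF'
  haveI : P.Normal := ⟨fun x hx g => by simpa using hx⟩
  have h3 := Abstract.nested_eq (A := Nat.card V) (B := Nat.card F) (a := Nat.card P)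
    (b := Nat.card (P ⊓ F : Subgroup V)) (s := P.relIndex F) (t := P.index) hE ha
    (Subgroup.card_dvd_of_le inf_le_left) P.card_mul_index.symm hF'.symm
    (Subgroup.relIndex_dvd_index_of_normal P F) (Nat.pos_of_ne_zero Subgroup.index_ne_zero_of_finite)
    (Nat.pos_of_ne_zero fun h0 => by
      have : 0 < Nat.card F := Nat.card_pos
      rw [h0, mul_zero] at hF'; omega) h2 h1
  exact Subgroup.eq_top_of_card_eq P h3.symm

end Cfsg.Agent.Lib.NoDivDegrees78.Count
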