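import Cfsg.Agent.Lib.NoDivDegrees78.FpfLinear

/-!
# Characters above linear characters of the derived subgroup
-/

set_option autoImplicit false
set_option linter.unusedSectionVars false
set_option linter.style.haveILetI false

namespace Cfsg.Agent.Lib.NoDivDegrees78.Derived

open scoped ComplexConjugate commutatorElement
open Cfsg.Agent.Lib.Characters.Basic Cfsg.Agent.Lib.BlocksChars5.Basic
open Cfsg.Agent.Lib.Clifford.Basic Cfsg.Agent.Lib.Induced.Basic
open Cfsg.Agent.Lib
open Cfsg.Agent.Lib.NoDivDegrees78.Complement
open Cfsg.Agent.Lib.Frobenius.Nilpotent (restrictAut restrictAut_apply invariant_of_characteristic)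

universe u

variable {G : Type u} [Group G] [Finite G]

/-- `η` restricts to the derived subgroup as a multiple of `a`. -/
def OverD (η : Cfsg.IrrCharacter G) (a : commutator G →* ℂˣ) : Prop :=
  ∀ d : commutator G, (η : G → ℂ) d = (η : G → ℂ) 1 * (a d : ℂ)

theorem eq_of_overD {η : Cfsg.IrrCharacter G} {a b : commutator G →* ℂˣ} (ha : OverD η a)
    (hb : OverD η b) : a = b :=
  MonoidHom.ext fun d => Units.ext (mul_left_cancel₀ (apply_one_ne_zero η) ((ha d).symm.trans (hb d)))

/-- A character above an invariant linear character of the derived subgroup. -/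
theorem exists_overD (a : commutator G →* ℂˣ)
    (hinv : ∀ (g : G) (d : commutator G),
      a ⟨g * d * g⁻¹, (inferInstance : (commutator G).Normal).conj_mem (d : G) d.2 g⟩ = a d) :
    ∃ η : Cfsg.IrrCharacter G, OverD η a := by
  classical
  haveI := Fintype.ofFinite G
  haveI := Fintype.ofFinite (commutator G)
  obtain ⟨η, hη⟩ := RelDegrees87.Basic.exists_over (commutator G)
    (RelDegrees87.Basic.lin (commutator G) a)
  refine ⟨η, fun d => ?_⟩
  have hres := restrict_eq_smul (commutator G) η.2 _ hη fun g => funext fun d =>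
    congrArg Units.val (hinv g d)
  have h1 := congrFun hres d
  have h2 := congrFun hres 1
  simp only [Pi.smul_apply, smul_eq_mul, RelDegrees87.Basic.coe_lin,
    RelDegrees87.Basic.L_apply, map_one, Units.val_one, mul_one, OneMemClass.coe_one] at h1 h2
  rw [h1, h2]

theorem deg_ne_one {η : Cfsg.IrrCharacter G} {a : commutator G →* ℂˣ} (ha : OverD η a)
    (hne : a ≠ 1) : deg η ≠ 1 := by
  intro h
  apply hne
  have h1 : (η : G → ℂ) 1 = 1 := by
    rw [apply_one, show Cfsg.charDegree (η : G → ℂ) = 1 from h, Nat.cast_one]
  refine MonoidHom.ext fun d => Units.ext ?_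
  have h2 := ha d
  rw [h1, one_mul] at h2
  rw [← h2, ← Characters.Linear.degOneHom_apply (isCharacter_irr η) h1,
    MonoidHom.mem_ker.mp (Abelianization.commutator_subset_ker
      (Characters.Linear.degOneHom (isCharacter_irr η) h1) d.2)]
  rfl

/-- Two characters above the same character differ by a linear one. -/
theorem exists_mul_of_overD {η η' : Cfsg.IrrCharacter G} {a : commutator G →* ℂˣ}
    (h : OverD η a) (h' : OverD η' a) :
    ∃ μ : G →* ℂˣ, ∀ g, (η' : G → ℂ) g = (μ g : ℂ) * (η : G → ℂ) g := by
  classical
  haveI := Fintype.ofFinite G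
  haveI := Fintype.ofFinite (commutator G)
  set f : G → ℂ := (η' : G → ℂ) * fun g => conj ((η : G → ℂ) g) with hf
  have hfc : Cfsg.IsCharacter G f :=
    isCharacter_mul (isCharacter_irr η') (isCharacter_conj (isCharacter_irr η))
  have hf1 : f 1 ≠ 0 := by
    show (η' : G → ℂ) 1 * conj ((η : G → ℂ) 1) ≠ 0
    rw [conj_apply_one (isCharacter_irr η)]
    exact mul_ne_zero (apply_one_ne_zero η') (apply_one_ne_zero η)
  obtain ⟨β, hβ⟩ := exists_constituent hfc fun h0 => hf1 (congrFun h0 1)
  have hres : f ∘ (commutator G).subtype =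
      ((η' : G → ℂ) 1 * (η : G → ℂ) 1) • (oneChar (commutator G) : commutator G → ℂ) := by
    funext d
    show (η' : G → ℂ) d * conj ((η : G → ℂ) d) = _ * (oneChar (commutator G) : commutator G → ℂ) d
    rw [h d, h' d, map_mul, conj_apply_one (isCharacter_irr η), oneChar_apply, mul_one]
    have hu : (a d : ℂ) * conj (a d : ℂ) = 1 := by
      have hn : ‖(a d : ℂ)‖ = 1 := Complex.norm_eq_one_of_pow_eq_one
        (n := Nat.card (commutator G)) (by
          rw [← Units.val_pow_eq_pow_val, ← map_pow, pow_card_eq_one', map_one, Units.val_one])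
        Nat.card_pos.ne'
      rw [Complex.mul_conj', hn, Complex.ofReal_one, one_pow]
    linear_combination ((η' : G → ℂ) 1 * (η : G → ℂ) 1) * hu
  obtain ⟨b, hb⟩ := exists_constituent_restrict (commutator G) β.2
  have hb' := classInner_comp_ne_zero (commutator G).subtype hfc hβ hb
  rw [hres, classInner_smul_left] at hb'
  have hb1 : b = oneChar (commutator G) := by
    by_contra hne
    exact hb' (by rw [classInner_irr_of_ne (Ne.symm hne), mul_zero])
  subst hb1
  have hβres := restrict_eq_smul (commutator G) β.2 _ hb fun g => funext fun d => rfl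
  have hker : commutator G ≤ charKer β := fun d hd => by
    rw [mem_charKer]
    have h1 := congrFun hβres ⟨d, hd⟩
    have h2 := congrFun hβres 1
    simp only [Pi.smul_apply, smul_eq_mul, oneChar_apply, mul_one, OneMemClass.coe_one] at h1 h2
    rw [h1, h2]
  obtain ⟨β', hβ'⟩ := exists_deflate β (commutator G) hker
  have hβ1 : (β : G → ℂ) 1 = 1 := by
    rw [← hβ', inflate_apply, QuotientGroup.mk_one]
    exact degree_eq_one_of_comm β' fun x y => mul_comm (G := Abelianization G) x y
  set μ := Characters.Linear.degOneHom (isCharacter_irr β) hβ1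
  refine ⟨μ, ?_⟩
  have hμη : Cfsg.IsIrrCharacter G ((β : G → ℂ) * (η : G → ℂ)) :=
    Characters.Linear.isIrrCharacter_linear_mul (isCharacter_irr β) hβ1 η.2
  have heq : η' = ⟨_, hμη⟩ := by
    by_contra hne
    apply hβ
    have h0 := classInner_irr_of_ne hne
    rw [← h0]
    simp only [Cfsg.classInner, hf, Pi.mul_apply, map_mul]
    congr 1
    exact Finset.sum_congr rfl fun g _ => by ring
  intro g
  conv_lhs => rw [heq]
  rfl

section Automorphisms

variable {H : Type u} [Group H] [Finite H] (W : Subgroup H) [W.Normal]

/-- The action on the derived subgroup of a normal subgroup. -/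
noncomputable def dAut : H →* MulAut (commutator W) where
  toFun h := restrictAut (MulAut.conjNormal h) (commutator W) (invariant_of_characteristic _ _)
  map_one' := MulEquiv.ext fun d => Subtype.ext (Subtype.ext (by simp [restrictAut_apply]))
  map_mul' a b := MulEquiv.ext fun d => Subtype.ext (by
    simp [restrictAut_apply, MulAut.mul_apply, map_mul])

/-- The action on linear characters of the derived subgroup. -/
noncomputable def dact : H →* MulAut (commutator W →* ℂˣ) where
  toFun h :=
    { toFun := fun a => a.comp (dAut W h⁻¹).toMonoidHom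
      invFun := fun a => a.comp (dAut W h).toMonoidHom
      left_inv := fun a => MonoidHom.ext fun d => congrArg a (by simp [map_inv])
      right_inv := fun a => MonoidHom.ext fun d => congrArg a (by simp [map_inv])
      map_mul' := fun _ _ => rfl }
  map_one' := MulEquiv.ext fun a => MonoidHom.ext fun d => congrArg a (by simp)
  map_mul' x y := MulEquiv.ext fun a => MonoidHom.ext fun d => congrArg a (by
    show dAut W (x * y)⁻¹ d = dAut W y⁻¹ (dAut W x⁻¹ d)
    rw [← MulAut.mul_apply, ← map_mul, mul_inv_rev])

theorem dact_apply (h : H) (a : commutator W →* ℂˣ) (d : commutator W) :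
    dact W h a d = a (dAut W h⁻¹ d) := rfl

theorem coe_dAut (h : H) (d : commutator W) :
    (((dAut W h d : commutator W) : W) : H) = h * ((d : W) : H) * h⁻¹ := by
  simp [dAut, restrictAut_apply]

theorem coe_dAut_eq (h : H) (d : commutator W) :
    ((dAut W h d : commutator W) : W) = MulAut.conjNormal h (d : W) := rfl

/-- Fixing a character above `a` fixes `a`, and conjugation moves the pair together. -/
theorem overD_conj {η η' : Cfsg.IrrCharacter W} {a : commutator W →* ℂˣ} {h : H}
    (ha : OverD η a) (he : (η' : W → ℂ) = conjC W h (η : W → ℂ)) :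
    OverD η' (dact W h⁻¹ a) := by
  intro d
  rw [he, conjC_apply, conjC_apply]
  have e1 : (⟨h * ((d : W) : H) * h⁻¹, (inferInstance : W.Normal).conj_mem _ (d : W).2 h⟩ : W) =
      ((dAut W h d : commutator W) : W) := Subtype.ext (coe_dAut W h d).symm
  have e2 : (⟨h * ((1 : W) : H) * h⁻¹, (inferInstance : W.Normal).conj_mem _ (1 : W).2 h⟩ : W) = 1 :=
    Subtype.ext (by simp)
  rw [e1, e2, ha, dact_apply, inv_inv]

end Automorphisms

end Cfsg.Agent.Lib.NoDivDegrees78.Derived
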