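import Cfsg.Agent.Lib.NoDivDegrees78.Inner

/-!
# In the fixed-point-free case every character of the kernel is linear
-/

set_option autoImplicit false
set_option linter.unusedSectionVars false
set_option linter.style.haveILetI false
set_option maxHeartbeats 800000

namespace Cfsg.Agent.Lib.NoDivDegrees78.Endgame

open scoped ComplexConjugate commutatorElement
open Cfsg.Agent.Lib.Characters.Basic Cfsg.Agent.Lib.BlocksChars5.Basic
open Cfsg.Agent.Lib.Clifford.Basic Cfsg.Agent.Lib.Induced.Basic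
open Cfsg.Agent.Lib
open Cfsg.Agent.Lib.NoDivDegrees78.Complement
open Cfsg.Agent.Lib.NoDivDegrees78.QPart (lact)
open Cfsg.Agent.Lib.NoDivDegrees78.Derived
open Cfsg.Agent.Lib.NoDivDegrees78.FpfLinear
open Cfsg.Agent.Lib.NoDivDegrees78.Radical
open Cfsg.Agent.Lib.NoDivDegrees78.Inner
open Cfsg.Agent.Lib.Frobenius.Nilpotent (restrictAut restrictAut_apply invariant_of_characteristic)

universe u

noncomputable local instance (priority := high) homOne {N : Type*} [Group N] : One (N →* ℂˣ) :=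
  (MonoidHom.instCommGroup (M := N) (N := ℂˣ)).toGroup.toDivInvMonoid.toMonoid.toMulOneClass.toMulOne.toOne
noncomputable local instance (priority := high) homMul {N : Type*} [Group N] : Mul (N →* ℂˣ) :=
  (MonoidHom.instCommGroup (M := N) (N := ℂˣ)).toGroup.toDivInvMonoid.toMonoid.toMulOneClass.toMulOne.toMul
noncomputable local instance (priority := high) homPow {N : Type*} [Group N] : Pow (N →* ℂˣ) ℕ :=
  (MonoidHom.instCommGroup (M := N) (N := ℂˣ)).toGroup.toDivInvMonoid.toMonoid.toNPow.toPow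
noncomputable local instance (priority := high) homInv {N : Type*} [Group N] : Inv (N →* ℂˣ) :=
  (MonoidHom.instCommGroup (M := N) (N := ℂˣ)).toGroup.toDivInvMonoid.toInv
noncomputable local instance (priority := high) homDiv {N : Type*} [Group N] : Div (N →* ℂˣ) :=
  (MonoidHom.instCommGroup (M := N) (N := ℂˣ)).toGroup.toDivInvMonoid.toDiv

/-- Precomposition with the inverse of an automorphism. -/
noncomputable def precomp {G : Type u} [Group G] (β : G ≃* G) : (G →* ℂˣ) ≃* (G →* ℂˣ) where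
  toFun μ := μ.comp β.symm.toMonoidHom
  invFun μ := μ.comp β.toMonoidHom
  left_inv μ := MonoidHom.ext fun x => congrArg μ (β.symm_apply_apply x)
  right_inv μ := MonoidHom.ext fun x => congrArg μ (β.apply_symm_apply x)
  map_mul' _ _ := rfl

theorem precomp_apply {G : Type u} [Group G] (β : G ≃* G) (μ : G →* ℂˣ) (x : G) :
    precomp β μ x = μ (β.symm x) := rfl

theorem iterate_precomp {G : Type u} [Group G] (β : G ≃* G) {n : ℕ} (hn : ∀ x, (⇑β)^[n] x = x)
    (μ : G →* ℂˣ) : (⇑(precomp β))^[n] μ = μ := by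
  have h : ∀ (k : ℕ) (ν : G →* ℂˣ) (x : G), (⇑(precomp β))^[k] ν ((⇑β)^[k] x) = ν x := by
    intro k
    induction k with
    | zero => intro ν x; rfl
    | succ k ih =>
      intro ν x
      rw [Function.iterate_succ_apply' (⇑β), Function.iterate_succ_apply' (⇑(precomp β)),
        precomp_apply, MulEquiv.symm_apply_apply, ih]
  refine MonoidHom.ext fun x => ?_
  have h1 := h n μ x
  rwa [hn] at h1

variable {H : Type u} [Group H] [Finite H] {W U : Subgroup H} [W.Normal]
  (hc : Subgroup.IsComplement' W U) {α : MulAut H} (hyp : Hyp α) {r₀ : H} {q : ℕ}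
  (hS : Setting W U α r₀ q)

include hc hyp hS in
/-- Every character of the kernel is linear. -/
theorem deg_eq_one [Fintype H] [Fintype W] [Group.IsNilpotent W] (η₀ : Cfsg.IrrCharacter W) :
    deg η₀ = 1 := by
  classical
  by_contra hη₀
  have hD : commutator W ≠ ⊥ := by
    intro h
    apply hη₀
    have h1 := BlocksChars5.Basic.degree_eq_one_of_comm η₀ fun x y => by
      rw [← commutatorElement_eq_one_iff_mul_comm]
      exact Subgroup.mem_bot.mp (h ▸ Subgroup.commutator_mem_commutator (Subgroup.mem_top x) (Subgroup.mem_top y))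
    rw [apply_one] at h1
    exact_mod_cast h1
  haveI : Nontrivial W := by
    by_contra hn
    rw [not_nontrivial_iff_subsingleton] at hn
    exact hD (eq_bot_iff.mpr fun x _ => Subgroup.mem_bot.mpr (Subsingleton.elim x 1))
  obtain ⟨μ₀, hμ₀⟩ : ∃ μ : W →* ℂˣ, μ ≠ 1 := by
    obtain ⟨w, -, hw⟩ := SetLike.exists_of_lt (Group.IsSolvable.commutator_lt_top_of_nontrivial W)
    by_contra hall
    push Not at hall
    exact hw (mem_commutator_of_forall fun μ => by rw [hall μ]; rfl)
  have hU : ∀ a b : U, a * b = b * a := fun a b => Subtype.ext (hS.comm a a.2 b b.2)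
  set αU : U ≃* U := restrictAut α U hS.hαU with hαU
  set αW : W ≃* W := restrictAut α W hS.hαW with hαW
  set n := orderOf α with hn
  have hitU : ∀ v : U, (⇑αU)^[n] v = v :=
    Frobenius.Nilpotent.iterate_restrict (iterate_orderOf α) U hS.hαU
  have hitW : ∀ v : W, (⇑αW)^[n] v = v :=
    Frobenius.Nilpotent.iterate_restrict (iterate_orderOf α) W hS.hαW
  haveI := finite_dual W
  haveI := finite_dual (commutator W)
  -- the linear level
  set actV : U →* MulAut (W →* ℂˣ) := (lact W).comp U.subtype with hactV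
  set θ₀ := RelDegrees87.Basic.lin W μ₀ with hθ₀
  set X : Subgroup U := (inertia W (θ₀ : W → ℂ)).subgroupOf U with hXdef
  have hXiff : ∀ u : U, u ∈ X ↔ actV u μ₀ = μ₀ := fun u => QPart.mem_inertia_lin W μ₀ u
  have hX : ∀ x : W →* ℂˣ, x ≠ 1 → ∀ u, actV u x = x ↔ u ∈ X := fun x hx u => by
    rw [hXiff]
    exact ⟨stab_common hc hyp hS hx hμ₀ u u.2, stab_common hc hyp hS hμ₀ hx u u.2⟩
  have hXfix : ∀ x ∈ X, αU x = x := fun x hx =>
    Subtype.ext (stab_fixed hc hyp hS hμ₀ x x.2 ((hXiff x).mp hx))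
  set σ := precomp αW with hσdef
  have hσ : ∀ u x, σ (actV u x) = actV (αU u) (σ x) := by
    intro u x
    refine MonoidHom.ext fun w => ?_
    show lact W (u : H) x (αW.symm w) = lact W ((αU u : U) : H) (σ x) w
    rw [QPart.lact_apply, QPart.lact_apply, hσdef, precomp_apply]
    congr 1
    apply αW.injective
    rw [MulEquiv.apply_symm_apply]
    apply Subtype.ext
    rw [hαW, restrictAut_apply]
    show α ((u : H)⁻¹ * ((αW.symm w : W) : H) * u) = (α (u : H))⁻¹ * (w : H) * α u
    rw [map_mul, map_mul, map_inv]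
    congr 2
    exact congrArg (fun z : W => (z : H)) (αW.apply_symm_apply w)
  have horb : ∀ x : W →* ℂˣ, x ≠ 1 → ∃ u, σ x = actV u x := by
    intro x hx
    obtain ⟨χ, hχ⟩ := Tools.exists_ext_lin hc x
    obtain ⟨ψ, hψ, hov⟩ := exists_basic hc _ hχ
    obtain ⟨u, huU, hu⟩ := Tools.exists_conj_eq_comp hc hyp hS.hαW hov (hψ ▸ index_ne_one hS hx)
    refine ⟨αU ⟨u, huU⟩, ?_⟩
    have h1 : σ (actV ⟨u, huU⟩⁻¹ x) = x := by
      refine MonoidHom.ext fun w => Units.ext ?_
      have h2 := hu (αW.symm w)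
      rw [conjC_apply] at h2
      show ((lact W ((⟨u, huU⟩⁻¹ : U) : H) x (αW.symm w) : ℂˣ) : ℂ) = _
      rw [QPart.lact_apply]
      refine Eq.trans ?_ (h2.trans ?_)
      · exact congrArg (fun z => ((x z : ℂˣ) : ℂ)) (Subtype.ext (by simp))
      · refine congrArg (fun z => ((x z : ℂˣ) : ℂ)) (Subtype.ext ?_)
        exact congrArg (fun z : W => (z : H)) (αW.apply_symm_apply w)
    rw [hσ] at h1
    conv_rhs => rw [← h1, ← MulAut.mul_apply, ← map_mul, map_inv, mul_inv_cancel, map_one,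
      MulAut.one_apply]
  have hσn : ∀ x, (⇑σ)^[n] x = x := iterate_precomp αW hitW
  have hXidx : X.index = (inertia W (θ₀ : W → ℂ)).index := by
    rw [← QPart.inf_relIndex_eq_index hc (le_inertia' θ₀)]
    rfl
  obtain ⟨χ₀, hχ₀1, hχ₀⟩ := exists_degree hc hyp hS hμ₀
  have hcopX : n.Coprime X.index := by rw [hXidx, ← hχ₀]; exact hyp.cop χ₀ hχ₀1
  set E := X.relIndex (Abstract.diff hU αU).range with hEdef
  have hE : 1 < E := by
    obtain ⟨v, hvU, hv⟩ := hS.range
    have h0 : E ≠ 0 := Subgroup.index_ne_zero_of_finite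
    have h1 : E ≠ 1 := by
      intro h
      rw [hEdef, Subgroup.relIndex_eq_one] at h
      have h2 := hXfix _ (h ⟨⟨v, hvU⟩, rfl⟩)
      have h3 := congrArg (fun z : U => (z : H)) h2
      rw [Abstract.diff_apply] at h3
      simp only [hαU, restrictAut_apply, Subgroup.coe_mul, Subgroup.coe_inv] at h3
      rw [hv] at h3
      exact hS.ne h3
    omega
  have hVdvd : X.index ∣ Nat.card (W →* ℂˣ) - 1 := Count.index_dvd actV X hX
  have hcopV : (inertia W (θ₀ : W → ℂ)).index.Coprime (Nat.card (W →* ℂˣ)) := by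
    rw [← hXidx]
    refine Nat.Coprime.coprime_dvd_left hVdvd ?_
    rw [Nat.coprime_comm, Nat.coprime_self_sub_right Nat.card_pos]
    exact Nat.coprime_one_right _
  -- the exponent
  have hVone : 1 < Nat.card (W →* ℂˣ) := Finite.one_lt_card_iff_nontrivial.mpr ⟨⟨μ₀, 1, hμ₀⟩⟩
  set r := (Nat.card (W →* ℂˣ)).minFac with hr
  haveI : Fact r.Prime := ⟨Nat.minFac_prime hVone.ne'⟩
  have hexp : ∀ μ : W →* ℂˣ, μ ^ r = 1 := by
    have hP := Count.eq_top_of_invariant actV X hU αU σ hX hσ horb hσn hcopX hE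
      (P := (powMonoidHom r : (W →* ℂˣ) →* (W →* ℂˣ)).ker)
      (fun u x hx => by
        rw [MonoidHom.mem_ker, powMonoidHom_apply] at hx ⊢
        rw [← map_pow, hx, map_one])
      (fun h => by
        obtain ⟨z, hz⟩ := exists_prime_orderOf_dvd_card' (G := W →* ℂˣ) r (Nat.minFac_dvd _)
        have hz1 : z ∈ (powMonoidHom r : (W →* ℂˣ) →* (W →* ℂˣ)).ker := by
          rw [MonoidHom.mem_ker, powMonoidHom_apply, ← hz, pow_orderOf_eq_one]
        rw [h, Subgroup.mem_bot] at hz1
        rw [hz1, orderOf_one] at hz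
        exact (Fact.out : r.Prime).ne_one hz.symm)
    intro μ
    exact MonoidHom.mem_ker.mp (hP ▸ Subgroup.mem_top μ)
  have hVp : IsPGroup r (W →* ℂˣ) := fun μ => ⟨1, by rw [pow_one]; exact hexp μ⟩
  -- the derived level
  let A : Subgroup (commutator W →* ℂˣ) :=
    { carrier := {a | ∀ w : W, dact W (w : H) a = a}
      one_mem' := fun w => map_one _
      mul_mem' := fun {a b} ha hb w => by
        show dact W (w : H) (a * b) = a * b
        rw [map_mul, ha w, hb w]
      inv_mem' := fun {a} ha w => by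
        show dact W (w : H) a⁻¹ = a⁻¹
        rw [map_inv, ha w] }
  have hAinv : ∀ (u : H), ∀ a ∈ A, dact W u a ∈ A := by
    intro u a ha w
    have h1 := ha ⟨u⁻¹ * w * u, by simpa using (inferInstance : W.Normal).conj_mem _ w.2 u⁻¹⟩
    conv_rhs => rw [← h1]
    rw [← MulAut.mul_apply, ← MulAut.mul_apply, ← map_mul, ← map_mul]
    congr 2
    simp [mul_assoc]
  let actA : U →* MulAut A :=
    { toFun := fun u => restrictAut (dact W (u : H)) A (hAinv u)
      map_one' := MulEquiv.ext fun a => Subtype.ext (by simp [restrictAut_apply])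
      map_mul' := fun u v => MulEquiv.ext fun a => Subtype.ext (by
        simp [restrictAut_apply, MulAut.mul_apply, map_mul]) }
  have hactA : ∀ (u : U) (a : A), ((actA u a : A) : commutator W →* ℂˣ) = dact W (u : H) a :=
    fun u a => rfl
  set αD : commutator W ≃* commutator W :=
    restrictAut αW (commutator W) (invariant_of_characteristic _ _) with hαD
  have hαDcoe : ∀ d : commutator W, (((αD d : commutator W) : W) : H) = α ((d : W) : H) := by
    intro d
    simp [hαD, hαW, restrictAut_apply]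
  have hσD : ∀ (h : H) (a : commutator W →* ℂˣ),
      precomp αD (dact W h a) = dact W (α h) (precomp αD a) := by
    intro h a
    refine MonoidHom.ext fun d => ?_
    rw [precomp_apply, dact_apply, dact_apply, precomp_apply]
    congr 1
    apply αD.injective
    rw [MulEquiv.apply_symm_apply]
    refine Subtype.ext (Subtype.ext ?_)
    rw [hαDcoe, coe_dAut, coe_dAut, map_mul, map_mul, map_inv, map_inv]
    have h2 := hαDcoe (αD.symm d)
    rw [MulEquiv.apply_symm_apply] at h2
    rw [← h2, map_inv]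
  have hσA : ∀ a ∈ A, precomp αD a ∈ A := by
    intro a ha w
    have hw : (α.symm (w : H)) ∈ W := by
      have h1 := (αW.symm w).2
      have h2 := congrArg (fun z : W => (z : H)) (αW.apply_symm_apply w)
      simp only [hαW, restrictAut_apply] at h2
      rwa [← h2, MulEquiv.symm_apply_apply]
    have h1 := hσD (α.symm (w : H)) a
    rw [ha ⟨_, hw⟩, MulEquiv.apply_symm_apply] at h1
    exact h1.symm
  set σA : A ≃* A := restrictAut (precomp αD) A hσA with hσAdef
  have hitD : ∀ d : commutator W, (⇑αD)^[n] d = d :=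
    Frobenius.Nilpotent.iterate_restrict hitW _ _
  have hσAn : ∀ a, (⇑σA)^[n] a = a :=
    Frobenius.Nilpotent.iterate_restrict (iterate_precomp αD hitD) A hσA
  -- each element of `A`
  have hover : ∀ a : A, a ≠ 1 → ∃ (η : Cfsg.IrrCharacter W), OverD η (a : commutator W →* ℂˣ) ∧
      (a : commutator W →* ℂˣ) ≠ 1 ∧ ∃ χ : Cfsg.IrrCharacter (inertia W (η : W → ℂ)), Ext η χ := by
    intro a ha
    have hne : (a : commutator W →* ℂˣ) ≠ 1 := fun h => ha (Subtype.ext h)
    obtain ⟨η, hη⟩ := exists_overD (a : commutator W →* ℂˣ) fun g d => by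
      rw [conj_eq_dAut]
      have h := DFunLike.congr_fun (a.2 g⁻¹) d
      rwa [dact_apply, Subgroup.coe_inv, inv_inv] at h
    exact ⟨η, hη, hne, exists_ext hc hyp hS hμ₀ hη hne a.2 hcopV⟩
  have hne1 : ∀ {η : Cfsg.IrrCharacter W}, deg η ≠ 1 →
      (inertia W (η : W → ℂ)).index * deg η ≠ 1 :=
    fun h h' => h (Nat.eq_one_of_mul_eq_one_left h')
  have hAfix : ∀ a : A, a ≠ 1 → ∀ u : U, actA u a = a → αU u = u := by
    intro a ha u hu
    obtain ⟨η, hη, hne, χ, hχ⟩ := hover a ha
    have h1 : (u : H) ∈ inertia W (η : W → ℂ) :=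
      (mem_inertia_iff hc hyp hS hμ₀ hη hne u).mpr (congrArg Subtype.val hu)
    exact Subtype.ext (fixed_of_stab hc hyp hS.hαW hS.hαU hS.comm η hχ
      (hne1 (deg_ne_one hη hne)) u u.2 h1)
  have hr₀A : ∀ a : A, a ≠ 1 → actA ⟨r₀, hS.mem⟩ a ≠ a := fun a ha h =>
    hS.ne (congrArg Subtype.val (hAfix a ha _ h))
  have hmoved : ∀ a : A, (∃ u, actA u a ≠ a) → a ≠ 1 := by
    rintro a ⟨u, hu⟩ rfl
    exact hu (map_one _)
  have hcommA : ∀ a b : A, a ≠ 1 → b ≠ 1 → ∀ u, actA u a = a → actA u b = b := by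
    intro a b ha hb
    refine Abstract.common_stab hU actA ?_ ?_ a b ⟨_, hr₀A a ha⟩ ⟨_, hr₀A b hb⟩
    · intro x y hx hy hle u hu
      obtain ⟨η, hη, hne, χ, hχ⟩ := hover x (hmoved x hx)
      obtain ⟨η', hη', hne', χ', hχ'⟩ := hover y (hmoved y hy)
      have hd : deg η = deg η' := Nat.mul_self_inj.mp
        ((sq_deg hc hyp hS hμ₀ hη hne).trans (sq_deg hc hyp hS hμ₀ hη' hne').symm)
      have heq := Tools.inertia_eq_of_le hc hyp hχ hχ' hd (hne1 (deg_ne_one hη hne))
        (hne1 (deg_ne_one hη' hne')) fun v hv hv' => by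
          rw [mem_inertia_iff hc hyp hS hμ₀ hη' hne']
          exact congrArg Subtype.val (hle ⟨v, hv⟩
            (Subtype.ext ((mem_inertia_iff hc hyp hS hμ₀ hη hne v).mp hv')))
      refine Subtype.ext ((mem_inertia_iff hc hyp hS hμ₀ hη hne (u : H)).mp ?_)
      rw [heq, mem_inertia_iff hc hyp hS hμ₀ hη' hne']
      exact congrArg Subtype.val hu
    · intro g x hx
      exact ⟨_, hr₀A _ fun h0 => hx (div_eq_one.mp h0)⟩
  obtain ⟨a₁', ha₁', ha₁inv⟩ := exists_invariant hD
  have ha₁A : a₁' ∈ A := fun w => MonoidHom.ext fun d => by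
    rw [dact_apply, ← Subgroup.coe_inv, ← conj_eq_dAut, ha₁inv]
  set a₁ : A := ⟨a₁', ha₁A⟩ with ha₁def
  have ha₁ : a₁ ≠ 1 := fun h => ha₁' (congrArg Subtype.val h)
  obtain ⟨η₁, hη₁, hne₁, χ₁, hχ₁⟩ := hover a₁ ha₁
  set Y : Subgroup U := (inertia W (η₁ : W → ℂ)).subgroupOf U with hYdef
  have hYiff : ∀ u : U, u ∈ Y ↔ actA u a₁ = a₁ := fun u => by
    rw [hYdef, Subgroup.mem_subgroupOf, mem_inertia_iff hc hyp hS hμ₀ hη₁ hne₁]
    exact ⟨fun h => Subtype.ext h, fun h => congrArg Subtype.val h⟩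
  have hY : ∀ a : A, a ≠ 1 → ∀ u, actA u a = a ↔ u ∈ Y := fun a ha u => by
    rw [hYiff]
    exact ⟨hcommA a a₁ ha ha₁ u, hcommA a₁ a ha₁ ha u⟩
  have hYfix : ∀ y ∈ Y, αU y = y := fun y hy => hAfix a₁ ha₁ y ((hYiff y).mp hy)
  have hσA' : ∀ u a, σA (actA u a) = actA (αU u) (σA a) := fun u a =>
    Subtype.ext (hσD (u : H) a)
  have horbA : ∀ a : A, a ≠ 1 → ∃ u, σA a = actA u a := by
    intro a ha
    obtain ⟨η, hη, hne, χ, hχ⟩ := hover a ha
    obtain ⟨ψ, hψ, hov⟩ := exists_basic hc η hχ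
    obtain ⟨u, huU, hu⟩ := Tools.exists_conj_eq_comp hc hyp hS.hαW hov
      (hψ ▸ hne1 (deg_ne_one hη hne))
    refine ⟨αU ⟨u, huU⟩, ?_⟩
    have h1 : σA (actA ⟨u, huU⟩⁻¹ a) = a := by
      refine Subtype.ext (MonoidHom.ext fun d => Units.ext ?_)
      show ((precomp αD (dact W ((⟨u, huU⟩⁻¹ : U) : H) (a : commutator W →* ℂˣ)) d : ℂˣ) : ℂ) = _
      rw [precomp_apply, dact_apply, Subgroup.coe_inv, inv_inv]
      refine mul_left_cancel₀ (apply_one_ne_zero η) ?_
      rw [← hη, ← hη]
      have h2 := hu ((αD.symm d : commutator W) : W)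
      rw [conjC_apply] at h2
      refine Eq.trans ?_ (h2.trans ?_)
      · exact congrArg _ (Subtype.ext (coe_dAut W u _))
      · refine congrArg _ (Subtype.ext ?_)
        show α ((((αD.symm d : commutator W) : W) : H)) = _
        rw [← hαDcoe, MulEquiv.apply_symm_apply]
    rw [hσA'] at h1
    conv_rhs => rw [← h1, ← MulAut.mul_apply, ← map_mul, map_inv, mul_inv_cancel, map_one,
      MulAut.one_apply]
  have hcopY : n.Coprime Y.index := by
    obtain ⟨ψ, hψ, hov⟩ := exists_basic hc η₁ hχ₁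
    have h1 : Y.index = (inertia W (η₁ : W → ℂ)).index := by
      rw [← QPart.inf_relIndex_eq_index hc (le_inertia' η₁)]
      rfl
    rw [h1]
    exact (hyp.cop ψ (hψ ▸ hne1 (deg_ne_one hη₁ hne₁))).coprime_dvd_right
      (hψ ▸ dvd_mul_right _ _)
  have hEY : Y.relIndex (Abstract.diff hU αU).range = E :=
    (Abstract.relIndex_range_eq hU αU hitU hXfix hYfix hcopX hcopY).symm
  -- the exponent of `A`
  have hbr : ∀ (a : A) (w v : W), ⁅w, v⁆ ∈ commutator W := fun a w v =>
    Subgroup.commutator_mem_commutator (Subgroup.mem_top w) (Subgroup.mem_top v)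
  let Ψ : A → W → (W →* ℂˣ) := fun a w =>
    MonoidHom.mk' (fun v => (a : commutator W →* ℂˣ) ⟨⁅w, v⁆, hbr a w v⟩) fun v v' => by
      have h := DFunLike.congr_fun (a.2 v⁻¹) ⟨⁅w, v'⁆, hbr a w v'⟩
      rw [dact_apply, Subgroup.coe_inv, inv_inv] at h
      conv_rhs => rw [← h, ← map_mul]
      congr 1
      refine Subtype.ext (Subtype.ext ?_)
      rw [Subgroup.coe_mul, Subgroup.coe_mul, coe_dAut]
      simp only [commutatorElement_def, Subgroup.coe_mul, Subgroup.coe_inv]
      group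
  have hgen : ∀ b : commutator W →* ℂˣ, (∀ w v : W, b ⟨⁅w, v⁆,
      Subgroup.commutator_mem_commutator (Subgroup.mem_top w) (Subgroup.mem_top v)⟩ = 1) → b = 1 := by
    intro b hb
    refine MonoidHom.ext fun d => ?_
    have hle : ⁅(⊤ : Subgroup W), (⊤ : Subgroup W)⁆ ≤ b.ker.map (commutator W).subtype := by
      rw [Subgroup.commutator_le]
      intro w _ v _
      exact ⟨⟨⁅w, v⁆, Subgroup.commutator_mem_commutator (Subgroup.mem_top w) (Subgroup.mem_top v)⟩,
        hb w v, rfl⟩
    obtain ⟨e, he, hde⟩ := hle (show (d : W) ∈ ⁅(⊤ : Subgroup W), (⊤ : Subgroup W)⁆ from d.2)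
    rw [Subtype.ext (hde : (e : W) = d)] at he
    exact he
  have hAp : IsPGroup r A := fun a => ⟨1, by
    rw [pow_one]
    refine Subtype.ext (hgen _ fun w v => ?_)
    have h := DFunLike.congr_fun (hexp (Ψ a w)) v
    exact h⟩
  obtain ⟨d, hd⟩ := hVp.exists_card_eq
  obtain ⟨d', hd'⟩ := hAp.exists_card_eq
  have hcount := Count.card_sub_one actV X hU αU σ hX hσ horb hσn hcopX ⊤
    fun _ _ _ => Subgroup.mem_top _
  have hcountA := Count.card_sub_one actA Y hU αU σA hY hσA' horbA hσAn hcopY ⊤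
    fun _ _ _ => Subgroup.mem_top _
  rw [hEY] at hcountA
  rw [top_inf_eq, Subgroup.card_top, hd] at hcount
  rw [top_inf_eq, Subgroup.card_top, hd'] at hcountA
  obtain ⟨e, he⟩ := (hVp.to_subgroup (MonoidHom.eqLocus (σ : (W →* ℂˣ) →* (W →* ℂˣ))
    (MonoidHom.id _))).exists_card_eq
  obtain ⟨e', he'⟩ := (hAp.to_subgroup (MonoidHom.eqLocus (σA : A →* A)
    (MonoidHom.id _))).exists_card_eq
  rw [he] at hcount
  rw [he'] at hcountA
  have hA1 : 1 < Nat.card A := Finite.one_lt_card_iff_nontrivial.mpr ⟨⟨a₁, 1, ha₁⟩⟩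
  have hpe := Abstract.pow_eq (Fact.out : r.Prime).one_lt hE
    (Nat.pos_of_ne_zero fun h0 => by rw [hd, h0, pow_zero] at hVone; omega)
    (Nat.pos_of_ne_zero fun h0 => by rw [hd', h0, pow_zero] at hA1; omega) hcount hcountA
  -- an injection of `A` into a proper subset of the linear characters
  obtain ⟨w, -, hw⟩ := SetLike.exists_of_lt (Group.IsSolvable.commutator_lt_top_of_nontrivial W)
  let F : A →* (W →* ℂˣ) := MonoidHom.mk' (fun a => Ψ a w) fun a b => rfl
  have hFinj : Function.Injective F := by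
    rw [injective_iff_map_eq_one]
    intro a ha
    by_contra hane
    obtain ⟨η, hη, hne, -⟩ := hover a hane
    refine Tools.apply_ne_zero_of_central η (w := w) (fun v => ?_)
      (vanishing hc hyp hS hμ₀ hη hne w hw)
    rw [mem_charKer]
    have h1 := hη ⟨⁅w, v⁆, hbr a w v⟩
    have h2 : (a : commutator W →* ℂˣ) ⟨⁅w, v⁆, hbr a w v⟩ = 1 := DFunLike.congr_fun ha v
    rw [h2, Units.val_one, mul_one] at h1
    exact h1
  have hFsurj : Function.Surjective F :=
    (Finite.injective_iff_surjective_of_equiv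
      (Finite.card_eq.mp (by rw [hd, hd', hpe])).some).mp hFinj
  apply hw
  refine mem_commutator_of_forall fun μ => ?_
  obtain ⟨a, rfl⟩ := hFsurj μ
  show (a : commutator W →* ℂˣ) ⟨⁅w, w⁆, hbr a w w⟩ = 1
  rw [show (⟨⁅w, w⁆, hbr a w w⟩ : commutator W) = 1 from Subtype.ext (commutatorElement_self w),
    map_one]

end Cfsg.Agent.Lib.NoDivDegrees78.Endgame
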