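import Cfsg.Agent.Lib.NoDivDegrees78.Endgame
import Cfsg.Agent.Lib.Induced.Mackey
import Cfsg.Agent.Lib.Coprime.Glauberman

/-!
# An abelian complement fixing all linear characters
-/

set_option autoImplicit false
set_option linter.unusedSectionVars false
set_option linter.style.haveILetI false

namespace Cfsg.Agent.Lib.NoDivDegrees78.Fixed

open scoped commutatorElement
open Cfsg.Agent.Lib.Characters.Basic Cfsg.Agent.Lib.BlocksChars5.Basic
open Cfsg.Agent.Lib.Clifford.Basic
open Cfsg.Agent.Lib
open Cfsg.Agent.Lib.NoDivDegrees78.Complement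
open Cfsg.Agent.Lib.NoDivDegrees78.QPart (lact)
open Cfsg.Agent.Lib.NoDivDegrees78.FpfLinear (Setting)
open Cfsg.Agent.Lib.Frobenius.Nilpotent (restrictAut restrictAut_apply invariant_of_characteristic)

universe u

variable {H : Type u} [Group H] [Finite H] {M Q : Subgroup H} [M.Normal]
  (hc : Subgroup.IsComplement' M Q) {q : ℕ} [hq : Fact q.Prime] (hQ : IsPGroup q Q)
  (hM : (Nat.card M).Coprime q) {α : MulAut H} (hyp : Hyp α)

include hc hQ hM hyp in
theorem eq_deg (hαM : ∀ x ∈ M, α x ∈ M) (hαQ : ∀ x ∈ Q, α x ∈ Q)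
    (hαne : ∃ x ∈ Q, α x ≠ x) (hαq : (orderOf α).Coprime q)
    (hab : ∀ a ∈ Q, ∀ b ∈ Q, a * b = b * a)
    (hfix : ∀ μ : M →* ℂˣ, ∀ u ∈ Q, lact M u μ = μ)
    {ψ ψ' : Cfsg.IrrCharacter H} (hne : deg ψ ≠ 1) (hne' : deg ψ' ≠ 1) : deg ψ = deg ψ' := by
  classical
  haveI := Fintype.ofFinite H
  haveI := Fintype.ofFinite M
  have hcop := QPart.coprime_index hc hQ hM
  have hU : ∀ a b : Q, a * b = b * a := fun a b => Subtype.ext (hab a a.2 b b.2)
  set αQ : Q ≃* Q := restrictAut α Q hαQ with hαQdef
  have hiter : ∀ v : Q, (⇑αQ)^[orderOf α] v = v :=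
    Frobenius.Nilpotent.iterate_restrict (FpfLinear.iterate_orderOf α) Q hαQ
  -- the distinguished element
  set R := (Abstract.diff hU αQ).range with hR
  have hRne : R ≠ ⊥ := by
    intro h
    obtain ⟨x, hx, hxne⟩ := hαne
    have h1 : Abstract.diff hU αQ ⟨x, hx⟩ ∈ R := ⟨_, rfl⟩
    rw [h, Subgroup.mem_bot, Abstract.diff_apply, mul_inv_eq_one] at h1
    exact hxne (congrArg Subtype.val h1)
  obtain ⟨k, hk⟩ := (hQ.to_subgroup R).exists_card_eq
  have hqR : q ∣ Nat.card R := by
    rw [hk]
    refine dvd_pow_self q fun h0 => hRne (Subgroup.eq_bot_of_card_eq R ?_)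
    rw [hk, h0, pow_zero]
  obtain ⟨⟨r, hrR⟩, hr⟩ := exists_prime_orderOf_dvd_card' q hqR
  rw [← Subgroup.orderOf_coe] at hr
  have hr1 : r ≠ 1 := fun h => by
    rw [show ((⟨r, hrR⟩ : R) : Q) = r from rfl, h, orderOf_one] at hr
    exact hq.out.ne_one hr.symm
  have hrne : α (r : H) ≠ r := by
    intro h
    have h1 := Abstract.pow_eq_one_of_fixed hU αQ hiter hrR (Subtype.ext h)
    obtain ⟨j, hj⟩ := hQ r
    exact hr1 (orderOf_eq_one_iff.mp (Nat.eq_one_of_dvd_coprimes (hαq.pow_right j)
      (orderOf_dvd_of_pow_eq_one h1) (orderOf_dvd_of_pow_eq_one hj)))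
  have hrq : (r : H) ^ q = 1 := by
    rw [← Subgroup.coe_pow, ← hr, pow_orderOf_eq_one, Subgroup.coe_one]
  have hlin_of : ∀ θ : Cfsg.IrrCharacter M, (r : H) ∈ inertia M (θ : M → ℂ) → deg θ = 1 := by
    intro θ hθ
    by_contra hd
    obtain ⟨χ, hχ⟩ := exists_ext_of_coprime hcop θ
    exact hrne (fixed_of_stab hc hyp hαM hαQ hab θ hχ
      (fun h => hd (Nat.eq_one_of_mul_eq_one_left h)) r r.2 hθ)
  -- the kernel
  set W : Subgroup H := (commutator M).map M.subtype with hW
  have hWM : W ≤ M := Subgroup.map_subtype_le _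
  haveI hWn : W.Normal := ⟨fun w hw g => by
    obtain ⟨d, hd, rfl⟩ := hw
    exact ⟨MulAut.conjNormal g d, invariant_of_characteristic (MulAut.conjNormal g) _ d hd, by simp⟩⟩
  have hαW : ∀ x ∈ W, α x ∈ W := by
    rintro _ ⟨d, hd, rfl⟩
    exact ⟨restrictAut α M hαM d, invariant_of_characteristic _ _ d hd, rfl⟩
  have hmemW : ∀ x : M, x ∈ commutator M → (x : H) ∈ W := fun x hx => ⟨x, hx, rfl⟩
  have htriv : ∀ u ∈ Q, ∀ m ∈ M, u * m * u⁻¹ * m⁻¹ ∈ W := by
    intro u hu m hm
    set x : M := MulAut.conjNormal u ⟨m, hm⟩ * ⟨m, hm⟩⁻¹ with hx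
    have hxD : x ∈ commutator M := FpfLinear.mem_commutator_of_forall fun μ => by
      have h := DFunLike.congr_fun (hfix μ u hu) (MulAut.conjNormal u ⟨m, hm⟩)
      rw [QPart.lact_apply] at h
      rw [hx, map_mul, map_inv, mul_inv_eq_one, ← h]
      exact congrArg μ (Subtype.ext (by simp [mul_assoc]))
    simpa [hx] using hmemW x hxD
  have hQW : (Nat.card Q).Coprime (Nat.card W) := by
    obtain ⟨j, hj⟩ := hQ.exists_card_eq
    rw [hj]
    exact (hM.symm.pow_left j).coprime_dvd_right (Subgroup.card_dvd_of_le hWM)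
  have hQN : Q ≤ Subgroup.normalizer (W : Set H) := by
    rw [Subgroup.normalizer_eq_top]
    exact le_top
  have hlift : ∀ m ∈ M, ∃ n ∈ W, n * m ∈ Subgroup.centralizer (Q : Set H) := fun m hm =>
    Coprime.exists_fixed_mul hQN hQW (Or.inl (Coprime.isSolvable_of_isPGroup hQ))
      fun a ha => htriv a ha m hm
  -- fixed point freeness
  have hfpf : ∀ w ∈ W, (r : H) * w * (r : H)⁻¹ = w → w = 1 := by
    intro x hx hxr
    by_contra hx1
    set β : M ≃* M := MulAut.conjNormal (r : H) with hβ
    have hchars : Nat.card {χ : Cfsg.IrrCharacter M // (χ : M → ℂ) ∘ β = (χ : M → ℂ)} =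
        Nat.card {χ : Cfsg.IrrCharacter M // (χ : M → ℂ) 1 = 1} := by
      refine Nat.card_congr (Equiv.subtypeEquivRight fun χ => ?_)
      have hiff : (χ : M → ℂ) ∘ β = (χ : M → ℂ) ↔ (r : H) ∈ inertia M (χ : M → ℂ) := by
        rw [mem_inertia]
        constructor
        · intro h
          funext m
          rw [conjC_apply]
          exact (congrArg _ (Subtype.ext (by simp [hβ]))).trans (congrFun h m)
        · intro h
          funext m
          refine Eq.trans ?_ (congrFun h m)
          rw [conjC_apply]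
          exact congrArg _ (Subtype.ext (by simp [hβ]))
      rw [hiff]
      constructor
      · intro h
        rw [apply_one, show Cfsg.charDegree (χ : M → ℂ) = 1 from hlin_of χ h, Nat.cast_one]
      · intro h
        obtain ⟨μ, rfl⟩ := QPart.exists_lin M χ (by rw [apply_one] at h; exact_mod_cast h)
        exact (QPart.mem_inertia_lin M μ _).mpr (hfix μ r r.2)
    rw [Characters.Linear.card_linear, ← Induced.Mackey.card_fixed_classes_eq β] at hchars
    -- more fixed classes than that
    have hrep : ∀ c : M ⧸ commutator M, ∃ y : M, (y : M ⧸ commutator M) = c ∧ β y = y ∧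
        (c = 1 → y = 1) := by
      intro c
      by_cases hc1 : c = 1
      · exact ⟨1, by rw [hc1]; rfl, map_one β, fun _ => rfl⟩
      induction c using QuotientGroup.induction_on with
      | _ m =>
        obtain ⟨n, hn, hnm⟩ := hlift m m.2
        refine ⟨⟨n * m, mul_mem (hWM hn) m.2⟩, ?_, Subtype.ext ?_, fun h => absurd h hc1⟩
        · obtain ⟨d, hd, rfl⟩ := hn
          rw [QuotientGroup.eq]
          have e : (⟨M.subtype d * m, mul_mem d.2 m.2⟩ : M)⁻¹ * m = m⁻¹ * d⁻¹ * m :=
            Subtype.ext (by simp)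
          rw [e]
          simpa using (inferInstance : (commutator M).Normal).conj_mem _ (inv_mem hd) m⁻¹
        · rw [hβ, MulAut.conjNormal_apply]
          show (r : H) * (n * m) * (r : H)⁻¹ = n * m
          rw [Subgroup.mem_centralizer_iff.mp hnm r r.2, mul_inv_cancel_right]
    choose rep hrep1 hrep2 hrep3 using hrep
    obtain ⟨d, hd, hdx⟩ := hx
    have hdfix : β d = d := Subtype.ext (by
      rw [hβ, MulAut.conjNormal_apply]
      rw [← hdx] at hxr
      exact hxr)
    have hd1 : d ≠ 1 := fun h => hx1 (by rw [← hdx, h]; rfl)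
    haveI : Finite (ConjClasses M) := Finite.of_surjective _ (ConjClasses.mk_surjective (α := M))
    let F : Option (M ⧸ commutator M) →
        {C : ConjClasses M // ConjClasses.map β.toMonoidHom C = C} := fun o =>
      match o with
      | none => ⟨ConjClasses.mk d, congrArg ConjClasses.mk hdfix⟩
      | some c => ⟨ConjClasses.mk (rep c), congrArg ConjClasses.mk (hrep2 c)⟩
    have hab' : ∀ a b : M, ConjClasses.mk a = ConjClasses.mk b →
        (a : M ⧸ commutator M) = b := by
      intro a b h
      obtain ⟨g, hg⟩ := isConj_iff.mp (ConjClasses.mk_eq_mk_iff_isConj.mp h)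
      rw [← hg, QuotientGroup.mk_mul, QuotientGroup.mk_mul, QuotientGroup.mk_inv]
      rw [show (g : M ⧸ commutator M) * (a : M ⧸ commutator M) =
        (a : M ⧸ commutator M) * (g : M ⧸ commutator M) from mul_comm (G := Abelianization M) _ _,
        mul_inv_cancel_right]
    have hnone : ∀ c, F none ≠ F (some c) := fun c h => by
      have h1 : ConjClasses.mk d = ConjClasses.mk (rep c) := congrArg Subtype.val h
      have h2 := hab' _ _ h1
      rw [hrep1, (QuotientGroup.eq_one_iff d).mpr hd] at h2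
      rw [hrep3 c h2.symm, ConjClasses.mk_eq_mk_iff_isConj] at h1
      exact hd1 (isConj_one_left.mp h1)
    have hFinj : Function.Injective F := by
      rintro (_ | c) (_ | c') h
      · rfl
      · exact absurd h (hnone c')
      · exact absurd h.symm (hnone c)
      · have h1 := hab' _ _ (congrArg Subtype.val h : ConjClasses.mk (rep c) = ConjClasses.mk (rep c'))
        rw [hrep1, hrep1] at h1
        rw [h1]
    have hle := Nat.card_le_card_of_injective F hFinj
    rw [Finite.card_option, hchars] at hle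
    rw [Subgroup.index_eq_card] at hle
    omega
  -- the new complement
  set U : Subgroup H := Subgroup.centralizer (Q : Set H) with hUdef
  have hQU : Q ≤ U := fun u hu => Subgroup.mem_centralizer_iff.mpr fun v hv => hab v hv u hu
  have hdisj : ∀ w, w ∈ W → w ∈ U → w = 1 := fun w hw hwU => hfpf w hw (by
    rw [Subgroup.mem_centralizer_iff.mp hwU r r.2, mul_inv_cancel_right])
  have hcW : Subgroup.IsComplement' W U := by
    refine Subgroup.isComplement'_of_disjoint_and_mul_eq_univ
      (Subgroup.disjoint_def.mpr fun {w} => hdisj w) (Set.eq_univ_iff_forall.mpr fun h => ?_)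
    obtain ⟨n, hn, hnm⟩ := hlift _ (mul_proj_inv_mem hc h)
    refine ⟨n⁻¹, inv_mem hn, n * (h * (proj hc h)⁻¹) * proj hc h,
      mul_mem hnm (hQU (proj_mem hc h)), ?_⟩
    show n⁻¹ * (n * (h * (proj hc h)⁻¹) * proj hc h) = h
    group
  have hαU : ∀ x ∈ U, α x ∈ U := by
    intro x hx
    rw [Subgroup.mem_centralizer_iff]
    intro v hv
    obtain ⟨v', hv'⟩ := αQ.surjective ⟨v, hv⟩
    have e : α (v' : H) = v := congrArg Subtype.val hv'
    rw [← e, ← map_mul, ← map_mul, Subgroup.mem_centralizer_iff.mp hx v' v'.2]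
  have hUab : ∀ a ∈ U, ∀ b ∈ U, a * b = b * a := by
    intro a ha b hb
    have hpart : ∀ x ∈ U, x * (proj hc x)⁻¹ ∈ U := fun x hx =>
      mul_mem hx (inv_mem (hQU (proj_mem hc x)))
    set a' : H := a * (proj hc a)⁻¹ with ha'
    set b' : H := b * (proj hc b)⁻¹ with hb'
    have hcomm : a' * b' = b' * a' := by
      rw [← commutatorElement_eq_one_iff_mul_comm]
      refine hdisj _ ⟨⁅(⟨a', mul_proj_inv_mem hc a⟩ : M), ⟨b', mul_proj_inv_mem hc b⟩⁆,
        Subgroup.commutator_mem_commutator (Subgroup.mem_top _) (Subgroup.mem_top _), rfl⟩ ?_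
      rw [commutatorElement_def]
      exact mul_mem (mul_mem (mul_mem (hpart a ha) (hpart b hb)) (inv_mem (hpart a ha)))
        (inv_mem (hpart b hb))
    have hca : Commute (proj hc a) b' :=
      Subgroup.mem_centralizer_iff.mp (hpart b hb) _ (proj_mem hc a)
    have hcb : Commute (proj hc b) a' :=
      Subgroup.mem_centralizer_iff.mp (hpart a ha) _ (proj_mem hc b)
    have hpp : Commute (proj hc a) (proj hc b) := hab _ (proj_mem hc a) _ (proj_mem hc b)
    have hea : a = a' * proj hc a := by rw [ha']; group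
    have heb : b = b' * proj hc b := by rw [hb']; group
    rw [hea, heb]
    exact ((Commute.mul_right (show Commute a' b' from hcomm) hcb.symm).mul_left
      (hca.mul_right hpp))
  have hS : Setting W U α (r : H) q :=
    { hαW := hαW
      hαU := hαU
      comm := hUab
      mem := hQU r.2
      pow := hrq
      ne := hrne
      range := by
        obtain ⟨v, hv⟩ := hrR
        exact ⟨v, hQU v.2, congrArg Subtype.val hv⟩
      fpf := hfpf }
  haveI := Fintype.ofFinite W
  haveI : Group.IsNilpotent W := by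
    refine Frobenius.Nilpotent.isNilpotent_of_fixedPointFree hq.out
      (MulAut.conjNormal (r : H) : W ≃* W) (fun w hw => Subtype.ext ?_) fun w => ?_
    · refine hfpf w w.2 ?_
      have h := congrArg Subtype.val hw
      simpa using h
    · rw [FpfLinear.iterate_eq_pow, ← map_pow, hrq, map_one]
      rfl
  exact FpfLinear.eq_deg_of_linear hcW hyp hS (Endgame.deg_eq_one hcW hyp hS) hne hne'

end Cfsg.Agent.Lib.NoDivDegrees78.Fixed
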