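import Cfsg.Agent.Lib.NoDivDegrees78.Tools
import Cfsg.Agent.Lib.NoDivDegrees78.Count

/-!
# The fixed-point-free case: linear characters
-/

set_option autoImplicit false
set_option linter.unusedSectionVars false
set_option linter.style.haveILetI false

namespace Cfsg.Agent.Lib.NoDivDegrees78.FpfLinear

open Cfsg.Agent.Lib.Characters.Basic Cfsg.Agent.Lib.BlocksChars5.Basic
open Cfsg.Agent.Lib.Clifford.Basic
open Cfsg.Agent.Lib
open Cfsg.Agent.Lib.NoDivDegrees78.Complement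
open Cfsg.Agent.Lib.NoDivDegrees78.QPart (lact)
open scoped commutatorElement

universe u

noncomputable local instance (priority := high) homOne {N : Type*} [Group N] : One (N →* ℂˣ) :=
  (MonoidHom.instCommGroup (M := N) (N := ℂˣ)).toGroup.toDivInvMonoid.toMonoid.toMulOneClass.toMulOne.toOne
noncomputable local instance (priority := high) homMul {N : Type*} [Group N] : Mul (N →* ℂˣ) :=
  (MonoidHom.instCommGroup (M := N) (N := ℂˣ)).toGroup.toDivInvMonoid.toMonoid.toMulOneClass.toMulOne.toMul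
noncomputable local instance (priority := high) homPow {N : Type*} [Group N] : Pow (N →* ℂˣ) ℕ :=
  (MonoidHom.instCommGroup (M := N) (N := ℂˣ)).toGroup.toDivInvMonoid.toMonoid.toNPow.toPow
noncomputable local instance (priority := high) homInv {N : Type*} [Group N] : Inv (N →* ℂˣ) :=
  (MonoidHom.instCommGroup (M := N) (N := ℂˣ)).toGroup.toDivInvMonoid.toInv
noncomputable local instance (priority := high) homDiv {N : Type*} [Group N] : Div (N →* ℂˣ) :=
  (MonoidHom.instCommGroup (M := N) (N := ℂˣ)).toGroup.toDivInvMonoid.toDiv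

/-- An element killed by every linear character lies in the commutator subgroup. -/
theorem mem_commutator_of_forall {G : Type u} [Group G] [Finite G] {g : G}
    (h : ∀ μ : G →* ℂˣ, μ g = 1) : g ∈ commutator G := by
  by_contra hg
  obtain ⟨φ, hφ⟩ := CommGroup.exists_apply_ne_one_of_hasEnoughRootsOfUnity (Abelianization G) ℂ
    (a := Abelianization.of g) (by
      rw [Ne, ← MonoidHom.mem_ker, Abelianization.ker_of]
      exact hg)
  exact hφ (h (φ.comp Abelianization.of))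

variable {H : Type u} [Group H]

theorem iterate_eq_pow (α : MulAut H) : ∀ (k : ℕ) (x : H), (⇑α)^[k] x = (α ^ k) x
  | 0, x => by simp
  | k + 1, x => by
    rw [Function.iterate_succ_apply', pow_succ', MulAut.mul_apply, iterate_eq_pow α k]

theorem iterate_orderOf (α : MulAut H) (x : H) : (⇑α)^[orderOf α] x = x := by
  rw [iterate_eq_pow, pow_orderOf_eq_one]
  rfl

/-- The data of the fixed-point-free case. -/
structure Setting (W U : Subgroup H) (α : MulAut H) (r₀ : H) (q : ℕ) : Prop where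
  hαW : ∀ x ∈ W, α x ∈ W
  hαU : ∀ x ∈ U, α x ∈ U
  comm : ∀ a ∈ U, ∀ b ∈ U, a * b = b * a
  mem : r₀ ∈ U
  pow : r₀ ^ q = 1
  ne : α r₀ ≠ r₀
  range : ∃ v ∈ U, α v * v⁻¹ = r₀
  fpf : ∀ w ∈ W, r₀ * w * r₀⁻¹ = w → w = 1

variable [Finite H] {W U : Subgroup H} [W.Normal] (hc : Subgroup.IsComplement' W U) {α : MulAut H}
  (hyp : Hyp α) {r₀ : H} {q : ℕ} (hS : Setting W U α r₀ q)

include hS in
/-- No nontrivial linear character is fixed by the distinguished element. -/
theorem r₀_moves {μ : W →* ℂˣ} (hμ : μ ≠ 1) : lact W r₀ μ ≠ μ := by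
  intro h
  apply hμ
  have hmem : ∀ x : W, r₀⁻¹ * x * r₀ ∈ W := fun x => by
    simpa using (inferInstance : W.Normal).conj_mem _ x.2 r₀⁻¹
  have hsurj : Function.Surjective (fun w : W => (⟨r₀⁻¹ * w * r₀, hmem w⟩ : W) * w⁻¹) := by
    refine Finite.surjective_of_injective fun a b e => ?_
    have e1 : r₀⁻¹ * (a : H) * r₀ * (a : H)⁻¹ = r₀⁻¹ * b * r₀ * (b : H)⁻¹ := congrArg Subtype.val e
    have h2 : r₀ * ((b : H)⁻¹ * a) * r₀⁻¹ = (b : H)⁻¹ * a := by
      have e3 : (r₀⁻¹ * (b : H) * r₀)⁻¹ * (r₀⁻¹ * (a : H) * r₀) = (b : H)⁻¹ * a := by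
        have e4 : r₀⁻¹ * (a : H) * r₀ = r₀⁻¹ * b * r₀ * (b : H)⁻¹ * a := by
          rw [← e1]; group
        rw [e4]; group
      calc r₀ * ((b : H)⁻¹ * a) * r₀⁻¹
          = r₀ * ((r₀⁻¹ * (b : H) * r₀)⁻¹ * (r₀⁻¹ * (a : H) * r₀)) * r₀⁻¹ := by rw [e3]
        _ = _ := by group
    have h3 := hS.fpf _ (mul_mem (inv_mem b.2) a.2) h2
    exact Subtype.ext (inv_mul_eq_one.mp h3).symm
  refine MonoidHom.ext fun x => ?_
  obtain ⟨w, rfl⟩ := hsurj x
  have h1 := DFunLike.congr_fun h w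
  rw [QPart.lact_apply] at h1
  rw [map_mul, map_inv, h1, mul_inv_cancel, MonoidHom.one_apply]

include hS in
theorem index_ne_one {μ : W →* ℂˣ} (hμ : μ ≠ 1) :
    (inertia W (RelDegrees87.Basic.lin W μ : W → ℂ)).index *
      deg (RelDegrees87.Basic.lin W μ) ≠ 1 := by
  intro h
  rw [show deg (RelDegrees87.Basic.lin W μ) = 1 from RelDegrees87.Basic.deg_lin W μ, mul_one,
    Subgroup.index_eq_one] at h
  exact r₀_moves hS hμ ((QPart.mem_inertia_lin W μ r₀).mp (h ▸ Subgroup.mem_top _))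

include hc hyp hS in
/-- All nontrivial linear characters have the same stabiliser. -/
theorem stab_common [Fintype H] [Fintype W] {μ ν : W →* ℂˣ} (hμ : μ ≠ 1) (hν : ν ≠ 1) :
    ∀ u ∈ U, lact W u μ = μ → lact W u ν = ν := by
  have hU : ∀ a b : U, a * b = b * a := fun a b => Subtype.ext (hS.comm a a.2 b b.2)
  set act : U →* MulAut (W →* ℂˣ) := (lact W).comp U.subtype with hact
  have hne : ∀ x : W →* ℂˣ, (∃ u, act u x ≠ x) → x ≠ 1 := by
    rintro x ⟨u, hu⟩ rfl
    exact hu (map_one _)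
  intro u hu h
  refine Abstract.common_stab hU act ?_ ?_ μ ν ⟨⟨r₀, hS.mem⟩, r₀_moves hS hμ⟩
    ⟨⟨r₀, hS.mem⟩, r₀_moves hS hν⟩ ⟨u, hu⟩ h
  · intro x y hx hy hle v hv
    obtain ⟨χ, hχ⟩ := Tools.exists_ext_lin hc x
    obtain ⟨χ', hχ'⟩ := Tools.exists_ext_lin hc y
    have heq := Tools.inertia_eq_of_le hc hyp hχ hχ'
      (by rw [show deg (RelDegrees87.Basic.lin W x) = 1 from RelDegrees87.Basic.deg_lin W x,
        show deg (RelDegrees87.Basic.lin W y) = 1 from RelDegrees87.Basic.deg_lin W y])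
      (index_ne_one hS (hne x hx)) (index_ne_one hS (hne y hy))
      fun w hw hw' => (QPart.mem_inertia_lin W y w).mpr
        (hle ⟨w, hw⟩ ((QPart.mem_inertia_lin W x w).mp hw'))
    exact (QPart.mem_inertia_lin W x v).mp (heq ▸ (QPart.mem_inertia_lin W y v).mpr hv)
  · intro g x hx
    exact ⟨⟨r₀, hS.mem⟩, r₀_moves hS fun h0 => hx (div_eq_one.mp h0)⟩

include hc hyp hS in
/-- The stabiliser of a nontrivial linear character is fixed by `α`. -/
theorem stab_fixed [Fintype H] [Fintype W] {μ : W →* ℂˣ} (hμ : μ ≠ 1) :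
    ∀ u ∈ U, lact W u μ = μ → α u = u := by
  intro u hu h
  obtain ⟨χ, hχ⟩ := Tools.exists_ext_lin hc μ
  exact fixed_of_stab hc hyp hS.hαW hS.hαU hS.comm _ hχ (index_ne_one hS hμ) u hu
    ((QPart.mem_inertia_lin W μ u).mpr h)

include hc hyp hS in
/-- The common degree. -/
theorem exists_degree [Fintype H] [Fintype W] {μ : W →* ℂˣ} (hμ : μ ≠ 1) :
    ∃ χ : Cfsg.IrrCharacter H, deg χ ≠ 1 ∧
      deg χ = (inertia W (RelDegrees87.Basic.lin W μ : W → ℂ)).index := by
  obtain ⟨χ, hχ⟩ := Tools.exists_ext_lin hc μ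
  obtain ⟨φ, hφ, -⟩ := exists_basic hc _ hχ
  refine ⟨φ, hφ ▸ index_ne_one hS hμ, ?_⟩
  rw [hφ, show deg (RelDegrees87.Basic.lin W μ) = 1 from RelDegrees87.Basic.deg_lin W μ, mul_one]

include hc hyp hS in
/-- For a nonlinear character some element fixes it and moves the linear ones. -/
theorem exists_stab_moving [Fintype H] [Fintype W] {μ : W →* ℂˣ} (hμ : μ ≠ 1)
    (η : Cfsg.IrrCharacter W) (hη : deg η ≠ 1) :
    ∃ y ∈ U, y ∈ inertia W (η : W → ℂ) ∧ lact W y μ ≠ μ := by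
  by_contra hcon
  push Not at hcon
  have hle := QPart.inertia_le hc (θ := η) (θ' := RelDegrees87.Basic.lin W μ)
    fun v hv hv' => (QPart.mem_inertia_lin W μ v).mpr (hcon v hv hv')
  obtain ⟨φ, hφ⟩ := RelDegrees87.Basic.exists_over W η
  have hd := index_mul_dvd hφ
  have hφ1 : deg φ ≠ 1 := fun h => hη (Nat.eq_one_of_mul_eq_one_left (Nat.dvd_one.mp (h ▸ hd)))
  obtain ⟨χ, hχ1, hχ⟩ := exists_degree hc hyp hS hμ
  have hidx := Subgroup.index_dvd_of_le hle
  have heq := hyp.nd χ φ hχ1 hφ1 (hχ ▸ hidx.trans ((dvd_mul_right _ _).trans hd))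
  rw [← heq, hχ] at hd
  have hpos : 0 < (inertia W (η : W → ℂ)).index := Nat.pos_of_ne_zero Subgroup.index_ne_zero_of_finite
  have h1 : (inertia W (η : W → ℂ)).index * deg η ≤ (inertia W (η : W → ℂ)).index :=
    Nat.le_of_dvd hpos (hd.trans hidx)
  have h2 : 0 < deg η := degree_pos η
  exact hη (le_antisymm (Nat.le_of_mul_le_mul_left (by rwa [mul_one]) hpos) h2)

include hc hyp hS in
/-- If every character of `W` is linear, all nonlinear degrees are equal. -/
theorem eq_deg_of_linear [Fintype H] [Fintype W] (hlin : ∀ η : Cfsg.IrrCharacter W, deg η = 1)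
    {ψ ψ' : Cfsg.IrrCharacter H} (hne : deg ψ ≠ 1) (hne' : deg ψ' ≠ 1) : deg ψ = deg ψ' := by
  have key : ∀ φ : Cfsg.IrrCharacter H, deg φ ≠ 1 → ∃ μ : W →* ℂˣ, μ ≠ 1 ∧
      deg φ = (inertia W (RelDegrees87.Basic.lin W μ : W → ℂ)).index := by
    intro φ hφ
    obtain ⟨θ, hθ⟩ := exists_constituent_restrict W φ.2
    obtain ⟨μ, rfl⟩ := QPart.exists_lin W θ (hlin θ)
    obtain ⟨χ, hχ⟩ := Tools.exists_ext_lin hc μ
    obtain ⟨hd, hd1⟩ := degree_eq_basic hc hyp hS.comm _ hχ hθ hφ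
    rw [show deg (RelDegrees87.Basic.lin W μ) = 1 from RelDegrees87.Basic.deg_lin W μ,
      mul_one] at hd hd1
    refine ⟨μ, fun h0 => hd1 ?_, hd⟩
    rw [Subgroup.index_eq_one, eq_top_iff]
    intro g _
    exact (QPart.mem_inertia_lin W μ g).mpr (by rw [h0]; exact map_one _)
  obtain ⟨μ, hμ, hd⟩ := key ψ hne
  obtain ⟨ν, hν, hd'⟩ := key ψ' hne'
  rw [hd, hd']
  refine congrArg Subgroup.index (le_antisymm ?_ ?_)
  · exact QPart.inertia_le hc fun u hu h => (QPart.mem_inertia_lin W ν u).mpr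
      (stab_common hc hyp hS hμ hν u hu ((QPart.mem_inertia_lin W μ u).mp h))
  · exact QPart.inertia_le hc fun u hu h => (QPart.mem_inertia_lin W μ u).mpr
      (stab_common hc hyp hS hν hμ u hu ((QPart.mem_inertia_lin W ν u).mp h))

end Cfsg.Agent.Lib.NoDivDegrees78.FpfLinear
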