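import Cfsg.Agent.Lib.NoDivDegrees78.Radical
import Mathlib.GroupTheory.Nilpotent

/-!
# The kernel of the fixed-point-free case is abelian
-/

set_option autoImplicit false
set_option linter.unusedSectionVars false
set_option linter.style.haveILetI false

namespace Cfsg.Agent.Lib.NoDivDegrees78.Inner

open scoped ComplexConjugate commutatorElement
open Cfsg.Agent.Lib.Characters.Basic Cfsg.Agent.Lib.BlocksChars5.Basic
open Cfsg.Agent.Lib.Clifford.Basic Cfsg.Agent.Lib.Induced.Basic
open Cfsg.Agent.Lib
open Cfsg.Agent.Lib.NoDivDegrees78.Complement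
open Cfsg.Agent.Lib.NoDivDegrees78.QPart (lact)
open Cfsg.Agent.Lib.NoDivDegrees78.Derived
open Cfsg.Agent.Lib.NoDivDegrees78.FpfLinear
open Cfsg.Agent.Lib.NoDivDegrees78.Radical
open Cfsg.Agent.Lib.Frobenius.Nilpotent (restrictAut restrictAut_apply invariant_of_characteristic)

universe u

noncomputable local instance (priority := high) homOne {N : Type*} [Group N] : One (N →* ℂˣ) :=
  (MonoidHom.instCommGroup (M := N) (N := ℂˣ)).toGroup.toDivInvMonoid.toMonoid.toMulOneClass.toMulOne.toOne
noncomputable local instance (priority := high) homMul {N : Type*} [Group N] : Mul (N →* ℂˣ) :=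
  (MonoidHom.instCommGroup (M := N) (N := ℂˣ)).toGroup.toDivInvMonoid.toMonoid.toMulOneClass.toMulOne.toMul
noncomputable local instance (priority := high) homPow {N : Type*} [Group N] : Pow (N →* ℂˣ) ℕ :=
  (MonoidHom.instCommGroup (M := N) (N := ℂˣ)).toGroup.toDivInvMonoid.toMonoid.toNPow.toPow
noncomputable local instance (priority := high) homInv {N : Type*} [Group N] : Inv (N →* ℂˣ) :=
  (MonoidHom.instCommGroup (M := N) (N := ℂˣ)).toGroup.toDivInvMonoid.toInv
noncomputable local instance (priority := high) homDiv {N : Type*} [Group N] : Div (N →* ℂˣ) :=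
  (MonoidHom.instCommGroup (M := N) (N := ℂˣ)).toGroup.toDivInvMonoid.toDiv

theorem finite_dual (G : Type u) [Group G] [Finite G] : Finite (G →* ℂˣ) :=
  Finite.of_injective Characters.Linear.linChar Characters.Linear.linChar_injective

theorem card_dual (G : Type u) [Group G] [Finite G] :
    Nat.card (G →* ℂˣ) = (commutator G).index := by
  rw [Nat.card_congr (Characters.Linear.linEquiv G), Characters.Linear.card_linear]

/-- A nonabelian nilpotent group has an invariant nontrivial linear character of its derived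
subgroup. -/
theorem exists_invariant {G : Type u} [Group G] [Finite G] [Group.IsNilpotent G]
    (hD : commutator G ≠ ⊥) :
    ∃ a : commutator G →* ℂˣ, a ≠ 1 ∧ ∀ (g : G) (d : commutator G),
      a ⟨g * d * g⁻¹, (inferInstance : (commutator G).Normal).conj_mem (d : G) d.2 g⟩ = a d := by
  set W₃ : Subgroup G := ⁅commutator G, (⊤ : Subgroup G)⁆ with hW₃
  have hne : ¬ commutator G ≤ W₃ := by
    intro hle
    apply hD
    have h : ∀ n, commutator G ≤ (⊤ : Subgroup G).lowerCentralSeries n := by
      intro n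
      induction n with
      | zero => exact le_top
      | succ n ih =>
        rw [Subgroup.lowerCentralSeries_succ]
        exact hle.trans (Subgroup.commutator_mono ih le_rfl)
    obtain ⟨n, hn⟩ := (Subgroup.nilpotent_iff_lowerCentralSeries).mp ‹Group.IsNilpotent G›
    exact le_bot_iff.mp (hn ▸ h n)
  obtain ⟨d, hd, hd3⟩ := SetLike.not_le_iff_exists.mp hne
  set K := W₃.subgroupOf (commutator G)
  haveI : W₃.Normal := Subgroup.commutator_normal _ _
  haveI : K.Normal := (inferInstance : W₃.Normal).subgroupOf _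
  let cg : CommGroup (commutator G ⧸ K) :=
    { (inferInstance : Group (commutator G ⧸ K)) with
      mul_comm := fun x y => by
        induction x using QuotientGroup.induction_on with
        | _ a => induction y using QuotientGroup.induction_on with
          | _ b =>
            rw [← commutatorElement_eq_one_iff_mul_comm]
            show ((⁅a, b⁆ : commutator G) : commutator G ⧸ K) = 1
            rw [QuotientGroup.eq_one_iff]
            exact Subgroup.commutator_mem_commutator a.2 (Subgroup.mem_top _) }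
  obtain ⟨φ, hφ⟩ := CommGroup.exists_apply_ne_one_of_hasEnoughRootsOfUnity
    (commutator G ⧸ K) ℂ (a := ((⟨d, hd⟩ : commutator G) : commutator G ⧸ K))
    (by rw [Ne, QuotientGroup.eq_one_iff]; exact hd3)
  refine ⟨φ.comp (QuotientGroup.mk' K), fun h => hφ (DFunLike.congr_fun h ⟨d, hd⟩), fun g x => ?_⟩
  rw [MonoidHom.comp_apply, MonoidHom.comp_apply, QuotientGroup.mk'_apply, QuotientGroup.mk'_apply]
  congr 1
  rw [QuotientGroup.eq]
  show (g * (x : G) * g⁻¹)⁻¹ * (x : G) ∈ W₃
  have e : (g * (x : G) * g⁻¹)⁻¹ * (x : G) = g * ⁅(x : G)⁻¹, g⁻¹⁆ * g⁻¹ := by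
    rw [commutatorElement_def]; group
  rw [e]
  exact (inferInstance : W₃.Normal).conj_mem _
    (Subgroup.commutator_mem_commutator (inv_mem x.2) (Subgroup.mem_top _)) g

variable {H : Type u} [Group H] [Finite H] {W U : Subgroup H} [W.Normal]
  (hc : Subgroup.IsComplement' W U) {α : MulAut H} (hyp : Hyp α) {r₀ : H} {q : ℕ}
  (hS : Setting W U α r₀ q)

theorem conj_eq_dAut (w : W) (d : commutator W) :
    (⟨w * d * w⁻¹, (inferInstance : (commutator W).Normal).conj_mem (d : W) d.2 w⟩ : commutator W) =
      dAut W (w : H) d :=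
  Subtype.ext (Subtype.ext (Derived.coe_dAut W (w : H) d).symm)

include hc hyp hS in
/-- Extension to the stabiliser. -/
theorem exists_ext [Fintype H] [Fintype W] {μ₀ : W →* ℂˣ} (hμ₀ : μ₀ ≠ 1)
    {η : Cfsg.IrrCharacter W} {a : commutator W →* ℂˣ} (ha : OverD η a) (hne : a ≠ 1)
    (hinv : ∀ w : W, dact W (w : H) a = a)
    (hcopV : (inertia W (RelDegrees87.Basic.lin W μ₀ : W → ℂ)).index.Coprime
      (Nat.card (W →* ℂˣ))) :
    ∃ χ : Cfsg.IrrCharacter (inertia W (η : W → ℂ)), Ext η χ := by
  classical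
  set θ := RelDegrees87.Basic.lin W μ₀
  have ha' : ∀ (g : W) (d : commutator W),
      a ⟨g * d * g⁻¹, (inferInstance : (commutator W).Normal).conj_mem (d : W) d.2 g⟩ = a d := by
    intro g d
    have h := DFunLike.congr_fun (hinv g⁻¹) d
    rw [dact_apply, Subgroup.coe_inv, inv_inv] at h
    rwa [conj_eq_dAut]
  haveI := charKer_normal η
  have hXker : ∀ x ∈ U, lact W x μ₀ = μ₀ → ∀ w : W,
      (MulAut.conjNormal x w : W ⧸ charKer η) = (w : W ⧸ charKer η) := fun x hx hxμ w => by
    have h := commutator_mem_charKer hc hyp hS hμ₀ ha hne ha' hx hxμ w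
    rw [QuotientGroup.eq_iff_div_mem, div_eq_mul_inv]
    exact h
  have hstabX : ∀ z, z ∈ inertia W (θ : W → ℂ) → proj hc z ∈ U ∧ lact W (proj hc z) μ₀ = μ₀ :=
    fun z hz => ⟨proj_mem hc z, (QPart.mem_inertia_lin W μ₀ _).mp (proj_mem_inertia hc θ hz)⟩
  have hle : inertia W (θ : W → ℂ) ≤ inertia W (η : W → ℂ) := by
    refine QPart.inertia_le hc fun u hu h => ?_
    rw [mem_inertia]
    funext w
    have hk : MulAut.conjNormal u w * w⁻¹ ∈ charKer η :=
      commutator_mem_charKer hc hyp hS hμ₀ ha hne ha' hu ((QPart.mem_inertia_lin W μ₀ u).mp h) w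
    have h1 := apply_mul_of_mem η w _ ((charKer_normal η).conj_mem _ hk w⁻¹)
    rw [conjC_apply]
    refine Eq.trans ?_ h1
    exact congrArg _ (Subtype.ext (by simp [mul_assoc]))
  set I := inertia W (η : W → ℂ) with hI
  set J := (inertia W (θ : W → ℂ)).subgroupOf I with hJ
  haveI : J.Normal := ⟨fun z hz g => by
    rw [hJ, Subgroup.mem_subgroupOf] at hz ⊢
    have hu := proj_mem_inertia hc θ hz
    have e : proj hc ((g * z * g⁻¹ : I) : H) = proj hc (z : H) := by
      rw [Subgroup.coe_mul, Subgroup.coe_mul, Subgroup.coe_inv, map_mul, map_mul, map_inv,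
        hS.comm _ (proj_mem hc _) _ (proj_mem hc _), mul_inv_cancel_right]
    have h2 := mul_mem (le_inertia' θ (mul_proj_inv_mem hc ((g * z * g⁻¹ : I) : H))) (e ▸ hu :
      proj hc ((g * z * g⁻¹ : I) : H) ∈ inertia W (θ : W → ℂ))
    rwa [inv_mul_cancel_right] at h2⟩
  haveI := Fintype.ofFinite J
  let pW : J → W := fun z => ⟨((z : I) : H) * (proj hc ((z : I) : H))⁻¹, mul_proj_inv_mem hc _⟩
  let f : J →* W ⧸ charKer η := MonoidHom.mk' (fun z => (pW z : W ⧸ charKer η)) fun z z' => by
    have hz := hstabX _ (Subgroup.mem_subgroupOf.mp z.2)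
    have e : pW (z * z') = pW z * MulAut.conjNormal (proj hc ((z : I) : H)) (pW z') := by
      apply Subtype.ext
      simp only [pW, Subgroup.coe_mul, MulAut.conjNormal_apply, map_mul]
      group
    show (pW (z * z') : W ⧸ charKer η) = (pW z : W ⧸ charKer η) * (pW z' : W ⧸ charKer η)
    rw [e, QuotientGroup.mk_mul, hXker _ hz.1 hz.2]
  let ιW : W →* J :=
    { toFun := fun w => ⟨⟨w, le_inertia' η w.2⟩, Subgroup.mem_subgroupOf.mpr (le_inertia' θ w.2)⟩
      map_one' := rfl
      map_mul' := fun _ _ => rfl }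
  have hfι : ∀ w : W, f (ιW w) = (w : W ⧸ charKer η) := fun w => by
    show (pW (ιW w) : W ⧸ charKer η) = _
    congr 1
    apply Subtype.ext
    show (w : H) * (proj hc (w : H))⁻¹ = w
    rw [proj_eq_one hc w.2, inv_one, mul_one]
  have hfsurj : Function.Surjective f := fun x => by
    induction x using QuotientGroup.induction_on with
    | _ w => exact ⟨ιW w, hfι w⟩
  obtain ⟨η', hη'⟩ := exists_deflate η (charKer η) le_rfl
  let φ : Cfsg.IrrCharacter J := ⟨_, isIrrCharacter_comp f hfsurj η'.2⟩
  have hφ : ∀ z, (φ : J → ℂ) z = (η : W → ℂ) (pW z) := fun z => by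
    rw [← hη', inflate_apply]
    rfl
  have hφ1 : deg φ = deg η := by
    refine BlocksChars5.Basic.charDegree_congr ?_
    show (φ : J → ℂ) 1 = _
    rw [hφ]
    refine congrArg _ ?_
    apply Subtype.ext
    simp [pW]
  have hJidx : J.index ∣ (inertia W (θ : W → ℂ)).index :=
    Subgroup.relIndex_dvd_index_of_le hle
  obtain ⟨χ, hχ⟩ := exists_extension J φ (fun g => funext fun z => by
      rw [conjC_apply, hφ, hφ]
      have hg := congrFun ((mem_inertia W).mp g.2) (pW z)
      rw [conjC_apply] at hg
      have hz := hstabX _ (Subgroup.mem_subgroupOf.mp z.2)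
      set p := proj hc ((z : I) : H) with hp
      set s := proj hc ((g : I) : H) with hs
      set w₁ : W := ⟨((g : I) : H) * s⁻¹, mul_proj_inv_mem hc _⟩ with hw₁
      have hps : s * p * s⁻¹ = p := by
        rw [hS.comm _ (proj_mem hc _) _ (proj_mem hc _), mul_inv_cancel_right]
      have e : pW ⟨(g : I) * z * (g : I)⁻¹, (inferInstance : J.Normal).conj_mem (z : I) z.2 g⟩ =
          MulAut.conjNormal ((g : I) : H) (pW z) * (w₁ * (MulAut.conjNormal p w₁)⁻¹) := by
        apply Subtype.ext
        simp only [pW, hw₁, Subgroup.coe_mul, Subgroup.coe_inv, MulAut.conjNormal_apply, map_mul,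
          map_inv, ← hp, ← hs, hps]
        calc ((g : I) : H) * ((z : I) : H) * ((g : I) : H)⁻¹ * p⁻¹
            = ((g : I) : H) * (((z : I) : H) * p⁻¹) * ((g : I) : H)⁻¹ *
              ((((g : I) : H) * s⁻¹) * (s * p * s⁻¹) * (((g : I) : H) * s⁻¹)⁻¹ * p⁻¹) := by group
          _ = _ := by rw [hps]; group
      rw [e, apply_mul_of_mem η _ _ ?_]
      · exact hg
      · have h1 := hXker p hz.1 hz.2 w₁
        rw [QuotientGroup.eq] at h1
        have h2 := (charKer_normal η).conj_mem _ h1 (MulAut.conjNormal p w₁)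
        rwa [← mul_assoc, mul_inv_cancel, one_mul] at h2)
    (by
      rw [hφ1]
      refine (hcopV.coprime_dvd_left hJidx).coprime_dvd_right ?_
      exact Dvd.intro _ (sq_deg hc hyp hS hμ₀ ha hne))
    (fun lam hlam => by
      refine (hcopV.coprime_dvd_left hJidx).coprime_dvd_right ?_
      haveI := finite_dual W
      refine orderOf_dvd_of_pow_eq_one (MonoidHom.ext fun z => ?_)
      obtain ⟨k, ρ, hρ, hρc⟩ := exists_rep φ
      haveI := hρ
      have hker : ∀ x : J, f x = 1 → lam x = 1 := by
        intro x hx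
        have h1 : ρ.character x = ρ.character 1 := by
          rw [hρc]
          show (η' : W ⧸ charKer η → ℂ) (f x) = (η' : W ⧸ charKer η → ℂ) (f 1)
          rw [hx, map_one]
        have h2 := (Characters.Kernel.rep_eq_one_iff ρ x).mpr h1
        refine Units.ext ?_
        have h3 := congrFun hlam x
        rw [← hρc, Clifford.Rep.detChar_eq ρ] at h3
        rw [Units.val_one]
        refine h3.trans ?_
        simp [h2]
      set x := (ιW (pW z))⁻¹ * z with hx
      have hfx : f x = 1 := by
        rw [hx, map_mul, map_inv, hfι]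
        exact inv_mul_cancel _
      have hz : z = ιW (pW z) * x := by rw [hx, mul_inv_cancel_left]
      rw [MonoidHom.pow_apply, MonoidHom.one_apply, hz, map_mul, hker x hfx, mul_one]
      have h4 : (lam.comp ιW) ^ Nat.card (W →* ℂˣ) = 1 := pow_card_eq_one'
      exact DFunLike.congr_fun h4 (pW z))
  refine ⟨χ, fun m => ?_⟩
  have h := hχ (ιW m)
  rw [hφ] at h
  refine h.trans (congrArg _ (Subtype.ext ?_))
  show (m : H) * (proj hc (m : H))⁻¹ = m
  rw [proj_eq_one hc m.2, inv_one, mul_one]

end Cfsg.Agent.Lib.NoDivDegrees78.Inner
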