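import Cfsg.Agent.Lib.NoDivDegrees78.Fixed

/-!
# All nonlinear degrees coincide
-/

set_option autoImplicit false
set_option linter.unusedSectionVars false
set_option linter.style.haveILetI false

namespace Cfsg.Agent.Lib.NoDivDegrees78.Main

open Cfsg.Agent.Lib.NoDivDegrees78.Complement
open Cfsg.Agent.Lib.NoDivDegrees78.QPart (lact)

universe u

variable {H : Type u} [Group H] [Finite H]

/-- With a normal `q`-complement and an automorphism fixing all nonlinear characters, moving the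
Sylow subgroup and of order prime to the degrees, incomparable degrees coincide. -/
theorem eq_deg {M Q : Subgroup H} [M.Normal] (hc : Subgroup.IsComplement' M Q) {q : ℕ}
    [Fact q.Prime] (hQ : IsPGroup q Q) (hM : (Nat.card M).Coprime q) {α : MulAut H} (hyp : Hyp α)
    (hαM : ∀ x ∈ M, α x ∈ M) (hαQ : ∀ x ∈ Q, α x ∈ Q) (hαne : ∃ x ∈ Q, α x ≠ x)
    (hαq : (orderOf α).Coprime q) {ψ ψ' : Cfsg.IrrCharacter H} (hne : deg ψ ≠ 1)
    (hne' : deg ψ' ≠ 1) : deg ψ = deg ψ' := by
  by_cases hab : ∀ a ∈ Q, ∀ b ∈ Q, a * b = b * a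
  · by_cases hfix : ∀ μ : M →* ℂˣ, ∀ u ∈ Q, lact M u μ = μ
    · exact Fixed.eq_deg hc hQ hM hyp hαM hαQ hαne hαq hab hfix hne hne'
    · push Not at hfix
      exact QPart.eq_deg_of_moved hc hQ hM hyp hαM hαQ hαne hαq hab hfix hne hne'
  · exact QPart.eq_deg_of_nonabelian hc hQ hM hyp hab hne hne'

end Cfsg.Agent.Lib.NoDivDegrees78.Main
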