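import Cfsg.Agent.Lib.NoDivDegrees78.Abstract
import Cfsg.Agent.Lib.NoDivDegrees78.Complement
import Cfsg.Agent.S0178

/-!
# A normal `q`-complement: nonabelian Sylow subgroup, or a moved linear character
-/

set_option autoImplicit false
set_option linter.unusedSectionVars false
set_option linter.style.haveILetI false

namespace Cfsg.Agent.Lib.NoDivDegrees78.QPart

open scoped commutatorElement
open Cfsg.Agent.Lib.Characters.Basic Cfsg.Agent.Lib.BlocksChars5.Basic
open Cfsg.Agent.Lib.Clifford.Basic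
open Cfsg.Agent.Lib
open Cfsg.Agent.Lib.NoDivDegrees78.Complement
open Cfsg.Agent.Lib.Frobenius.Nilpotent (restrictAut restrictAut_apply)

universe u

/-! Operations on linear characters, read off the commutative group structure. -/

noncomputable local instance (priority := high) homOne {N : Type*} [Group N] : One (N →* ℂˣ) :=
  (MonoidHom.instCommGroup (M := N) (N := ℂˣ)).toGroup.toDivInvMonoid.toMonoid.toMulOneClass.toMulOne.toOne
noncomputable local instance (priority := high) homMul {N : Type*} [Group N] : Mul (N →* ℂˣ) :=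
  (MonoidHom.instCommGroup (M := N) (N := ℂˣ)).toGroup.toDivInvMonoid.toMonoid.toMulOneClass.toMulOne.toMul
noncomputable local instance (priority := high) homPow {N : Type*} [Group N] : Pow (N →* ℂˣ) ℕ :=
  (MonoidHom.instCommGroup (M := N) (N := ℂˣ)).toGroup.toDivInvMonoid.toMonoid.toNPow.toPow
noncomputable local instance (priority := high) homInv {N : Type*} [Group N] : Inv (N →* ℂˣ) :=
  (MonoidHom.instCommGroup (M := N) (N := ℂˣ)).toGroup.toDivInvMonoid.toInv
noncomputable local instance (priority := high) homDiv {N : Type*} [Group N] : Div (N →* ℂˣ) :=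
  (MonoidHom.instCommGroup (M := N) (N := ℂˣ)).toGroup.toDivInvMonoid.toDiv

variable {H : Type u} [Group H]

/-- The action on linear characters by conjugation. -/
noncomputable def lact (M : Subgroup H) [M.Normal] : H →* MulAut (M →* ℂˣ) where
  toFun h :=
    { toFun := fun μ => μ.comp (MulAut.conjNormal h⁻¹).toMonoidHom
      invFun := fun μ => μ.comp (MulAut.conjNormal h).toMonoidHom
      left_inv := fun μ => MonoidHom.ext fun x => congrArg μ (Subtype.ext (by simp [mul_assoc]))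
      right_inv := fun μ => MonoidHom.ext fun x => congrArg μ (Subtype.ext (by simp [mul_assoc]))
      map_mul' := fun _ _ => rfl }
  map_one' := MulEquiv.ext fun μ => MonoidHom.ext fun x => congrArg μ (Subtype.ext (by simp))
  map_mul' a b := MulEquiv.ext fun μ => MonoidHom.ext fun x =>
    congrArg μ (Subtype.ext (by simp [mul_assoc]))

theorem lact_apply (M : Subgroup H) [M.Normal] (h : H) (μ : M →* ℂˣ) (x : M) :
    lact M h μ x = μ ⟨h⁻¹ * x * h, by
      simpa using (inferInstance : M.Normal).conj_mem _ x.2 h⁻¹⟩ :=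
  congrArg μ (Subtype.ext (by simp))

theorem lact_eq_cH (M : Subgroup H) [M.Normal] (h : H) (μ : M →* ℂˣ) :
    lact M h μ = RelDegrees87.Basic.cH M h⁻¹ μ := rfl

variable [Finite H]

theorem mem_inertia_lin (M : Subgroup H) [M.Normal] (μ : M →* ℂˣ) (h : H) :
    h ∈ inertia M (RelDegrees87.Basic.lin M μ : M → ℂ) ↔ lact M h μ = μ := by
  rw [lact_eq_cH, ← inv_mem_iff (x := h), RelDegrees87.Basic.coe_lin,
    RelDegrees87.Basic.inertia_L]

theorem exists_lin (M : Subgroup H) [M.Normal] (θ : Cfsg.IrrCharacter M) (h : deg θ = 1) :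
    ∃ μ : M →* ℂˣ, θ = RelDegrees87.Basic.lin M μ := by
  have h1 : (θ : M → ℂ) 1 = 1 := by
    rw [apply_one, show Cfsg.charDegree (θ : M → ℂ) = 1 from h, Nat.cast_one]
  exact ⟨Characters.Linear.degOneHom (isCharacter_irr θ) h1, Subtype.ext (funext fun x =>
    (Characters.Linear.degOneHom_apply (isCharacter_irr θ) h1 x).symm)⟩

theorem finite_hom (M : Subgroup H) [M.Normal] : Finite (M →* ℂˣ) :=
  Finite.of_injective (RelDegrees87.Basic.lin M) fun _ _ h =>
    RelDegrees87.Basic.L_injective M (congrArg Subtype.val h)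

theorem card_hom_dvd (M : Subgroup H) [M.Normal] : Nat.card (M →* ℂˣ) ∣ Nat.card M := by
  rw [Nat.card_congr (Characters.Linear.linEquiv M), Characters.Linear.card_linear]
  exact Subgroup.index_dvd_card _

variable {M Q : Subgroup H} [M.Normal] (hc : Subgroup.IsComplement' M Q)

include hc in
theorem inf_relIndex_eq_index {I : Subgroup H} (hMI : M ≤ I) :
    I.relIndex Q = I.index := by
  classical
  show Nat.card (Q ⧸ I.subgroupOf Q) = Nat.card (H ⧸ I)
  refine Nat.card_congr (Equiv.ofBijective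
    (Quotient.map' Subtype.val fun a b h => ?_) ⟨?_, ?_⟩)
  · rw [QuotientGroup.leftRel_apply] at h ⊢
    simpa [Subgroup.mem_subgroupOf] using h
  · intro x y
    induction x using QuotientGroup.induction_on with
    | _ a =>
      induction y using QuotientGroup.induction_on with
      | _ b =>
        intro h
        refine QuotientGroup.eq.mpr ?_
        have h1 : (a : H)⁻¹ * b ∈ I := QuotientGroup.eq.mp h
        simpa [Subgroup.mem_subgroupOf] using h1
  · intro y
    induction y using QuotientGroup.induction_on with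
    | _ h =>
      refine ⟨((⟨proj hc h, proj_mem hc h⟩ : Q) : Q ⧸ I.subgroupOf Q), ?_⟩
      refine QuotientGroup.eq.mpr (hMI ?_)
      exact QuotientGroup.eq.mp (proj_mk hc h)

include hc in
theorem inertia_le {θ θ' : Cfsg.IrrCharacter M}
    (h : ∀ u ∈ Q, u ∈ inertia M (θ : M → ℂ) → u ∈ inertia M (θ' : M → ℂ)) :
    inertia M (θ : M → ℂ) ≤ inertia M (θ' : M → ℂ) := by
  intro x hx
  have h1 := h _ (proj_mem hc x) (proj_mem_inertia hc θ hx)
  have h2 := mul_mem (le_inertia' θ' (mul_proj_inv_mem hc x)) h1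
  rwa [inv_mul_cancel_right] at h2

variable {q : ℕ} [hq : Fact q.Prime] (hQ : IsPGroup q Q) (hM : (Nat.card M).Coprime q)
include hc hQ hM

theorem exists_index_eq : ∃ k, M.index = q ^ k := by
  obtain ⟨k, hk⟩ := hQ.exists_card_eq
  exact ⟨k, by rw [hc.symm.index_eq_card, hk]⟩

theorem coprime_index : (Nat.card M).Coprime M.index := by
  obtain ⟨k, hk⟩ := exists_index_eq hc hQ hM
  rw [hk]
  exact hM.pow_right k

theorem coprime_deg (θ : Cfsg.IrrCharacter M) : q.Coprime (deg θ) := by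
  haveI := Fintype.ofFinite M
  exact hM.symm.coprime_dvd_right (degree_dvd_card θ)

/-- Two degrees that are powers of `q` coincide. -/
theorem eq_of_pow {α : MulAut H} (hyp : Hyp α) {ψ ψ' : Cfsg.IrrCharacter H} {i j : ℕ}
    (h : deg ψ = q ^ i) (h' : deg ψ' = q ^ j) (hne : deg ψ ≠ 1) (hne' : deg ψ' ≠ 1) :
    deg ψ = deg ψ' := by
  rcases le_total i j with hij | hij
  · exact hyp.nd ψ ψ' hne hne' (by rw [h, h']; exact Nat.pow_dvd_pow q hij)
  · exact (hyp.nd ψ' ψ hne' hne (by rw [h, h']; exact Nat.pow_dvd_pow q hij)).symm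

/-- A character above a linear one has `q`-power degree. -/
theorem exists_pow [Fintype H] [Fintype M] {ψ : Cfsg.IrrCharacter H} {θ : Cfsg.IrrCharacter M}
    (h : RelDegrees87.Basic.Over M ψ θ) (hθ : deg θ = 1) : ∃ i, deg ψ = q ^ i := by
  obtain ⟨e, he, hei⟩ := BlocksChars5.Restrict.ratio_dvd_nat M ψ θ h
  obtain ⟨k, hk⟩ := exists_index_eq hc hQ hM
  rw [hk, Nat.dvd_prime_pow hq.out] at hei
  obtain ⟨i, -, hi⟩ := hei
  exact ⟨i, by rw [deg, he, show Cfsg.charDegree (θ : M → ℂ) = 1 from hθ, mul_one, hi]⟩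

variable {α : MulAut H} (hyp : Hyp α)
include hyp

/-- The case of a nonabelian complement. -/
theorem eq_deg_of_nonabelian (hna : ¬ ∀ a ∈ Q, ∀ b ∈ Q, a * b = b * a) {ψ ψ' : Cfsg.IrrCharacter H}
    (hne : deg ψ ≠ 1) (hne' : deg ψ' ≠ 1) : deg ψ = deg ψ' := by
  classical
  haveI := Fintype.ofFinite H
  haveI := Fintype.ofFinite M
  have hcop := coprime_index hc hQ hM
  -- a nonlinear character of the complement
  set θ₀ := oneChar M
  have hI₀ : Q ⊓ inertia M (θ₀ : M → ℂ) = Q :=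
    inf_eq_left.mpr fun g _ => funext fun m => rfl
  haveI := Fintype.ofFinite (Q ⊓ inertia M (θ₀ : M → ℂ) : Subgroup H)
  obtain ⟨β₀, hβ₀⟩ : ∃ β : Cfsg.IrrCharacter (Q ⊓ inertia M (θ₀ : M → ℂ) : Subgroup H),
      deg β ≠ 1 := by
    by_contra hall
    push Not at hall
    apply hna
    intro a ha b hb
    have h := Characters.Complete.eq_one_of_forall_irr
      (G := (Q ⊓ inertia M (θ₀ : M → ℂ) : Subgroup H))
      (g := ⁅(⟨a, hI₀.symm ▸ ha⟩ : (Q ⊓ inertia M (θ₀ : M → ℂ) : Subgroup H)), ⟨b, hI₀.symm ▸ hb⟩⁆)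
      fun β => by
        have h1 : (β : (Q ⊓ inertia M (θ₀ : M → ℂ) : Subgroup H) → ℂ) 1 = 1 := by
          rw [apply_one, show Cfsg.charDegree (β : (Q ⊓ inertia M (θ₀ : M → ℂ) : Subgroup H) → ℂ) = 1 from hall β, Nat.cast_one]
        have hf := Characters.Linear.degOneHom_apply (isCharacter_irr β) h1
        rw [← hf, map_commutatorElement, commutatorElement_eq_one_iff_mul_comm.mpr (mul_comm _ _),
          Units.val_one, h1]
    exact congrArg Subtype.val (commutatorElement_eq_one_iff_mul_comm.mp h)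
  obtain ⟨χ₀, hχ₀⟩ := exists_ext_of_coprime hcop θ₀
  haveI := Fintype.ofFinite (inertia M (θ₀ : M → ℂ))
  obtain ⟨ψ₀, -, hdeg₀, -⟩ := exists_over_ext hc θ₀ hχ₀ β₀
  have hd1 : deg θ₀ = 1 := by simp [deg, Cfsg.charDegree, θ₀, oneChar_apply]
  have hidx₀ : (inertia M (θ₀ : M → ℂ)).index = 1 :=
    Subgroup.index_eq_one.mpr (eq_top_iff.mpr fun g _ => funext fun m => rfl)
  rw [hd1, hidx₀, one_mul, one_mul] at hdeg₀
  obtain ⟨i, hi⟩ : ∃ i, deg β₀ = q ^ i := by
    obtain ⟨k, hk⟩ := hQ.exists_card_eq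
    have h := degree_dvd_card β₀
    rw [show Nat.card (Q ⊓ inertia M (θ₀ : M → ℂ) : Subgroup H) = Nat.card Q by rw [hI₀], hk,
      Nat.dvd_prime_pow hq.out] at h
    obtain ⟨i, -, hi⟩ := h
    exact ⟨i, hi⟩
  -- all characters of `M` are linear
  have hlin : ∀ θ : Cfsg.IrrCharacter M, deg θ = 1 := by
    intro θ
    by_contra hθ
    obtain ⟨χ, hχ⟩ := exists_ext_of_coprime hcop θ
    have hne1 : (inertia M (θ : M → ℂ)).index * deg θ ≠ 1 := fun h => hθ (Nat.eq_one_of_mul_eq_one_left h)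
    have hab := abelian_stab hc hyp θ hχ hne1
    obtain ⟨ψ₁, hψ₁, -⟩ := exists_basic hc θ hχ
    have hle : deg β₀ ≤ (inertia M (θ : M → ℂ)).index := by
      obtain ⟨n, ρ, hρ, hρc⟩ := exists_rep β₀
      haveI := hρ
      have h1 := Cfsg.Agent.S0178.result ρ
        ((Q ⊓ inertia M (θ : M → ℂ)).subgroupOf (Q ⊓ inertia M (θ₀ : M → ℂ)))
        (fun a ha b hb => Subtype.ext (hab _ ha _ hb))
      have h2 : deg β₀ = Module.finrank ℂ (Fin n → ℂ) := by
        simp [deg, Cfsg.charDegree, ← hρc]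
      rw [h2, ← inf_relIndex_eq_index hc (le_inertia' θ)]
      refine h1.trans (le_of_eq ?_)
      show Subgroup.relIndex _ _ = _
      rw [hI₀, inf_comm, Subgroup.inf_relIndex_right]
    obtain ⟨j, hj⟩ : ∃ j, (inertia M (θ : M → ℂ)).index = q ^ j := by
      obtain ⟨k, hk⟩ := exists_index_eq hc hQ hM
      have h := Subgroup.index_dvd_of_le (le_inertia' θ)
      rw [hk, Nat.dvd_prime_pow hq.out] at h
      obtain ⟨j, -, hj⟩ := h
      exact ⟨j, hj⟩
    rw [hi, hj, Nat.pow_le_pow_iff_right hq.out.one_lt] at hle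
    have h := hyp.nd ψ₀ ψ₁ (hdeg₀ ▸ hβ₀) (hψ₁ ▸ hne1)
      (by rw [hdeg₀, hψ₁, hi, hj]; exact dvd_mul_of_dvd_left (Nat.pow_dvd_pow q hle) _)
    rw [hdeg₀, hψ₁, hi] at h
    exact hθ (Nat.eq_one_of_dvd_coprimes ((coprime_deg hc hQ hM θ).pow_left i)
      (Dvd.intro_left _ h.symm) dvd_rfl)
  obtain ⟨θ, hθ⟩ := exists_constituent_restrict M ψ.2
  obtain ⟨θ', hθ'⟩ := exists_constituent_restrict M ψ'.2
  obtain ⟨a, ha⟩ := exists_pow hc hQ hM hθ (hlin θ)
  obtain ⟨b, hb⟩ := exists_pow hc hQ hM hθ' (hlin θ')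
  exact eq_of_pow hc hQ hM hyp ha hb hne hne'

/-- The case of an abelian complement moving a linear character. -/
theorem eq_deg_of_moved (hαM : ∀ x ∈ M, α x ∈ M) (hαQ : ∀ x ∈ Q, α x ∈ Q)
    (hαne : ∃ x ∈ Q, α x ≠ x) (hαq : (orderOf α).Coprime q)
    (hab : ∀ a ∈ Q, ∀ b ∈ Q, a * b = b * a) (hmov : ∃ μ : M →* ℂˣ, ∃ u ∈ Q, lact M u μ ≠ μ)
    {ψ ψ' : Cfsg.IrrCharacter H} (hne : deg ψ ≠ 1) (hne' : deg ψ' ≠ 1) : deg ψ = deg ψ' := by
  classical
  haveI := Fintype.ofFinite H
  haveI := Fintype.ofFinite M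
  haveI := finite_hom M
  have hcop := coprime_index hc hQ hM
  have hU : ∀ a b : Q, a * b = b * a := fun a b => Subtype.ext (hab a a.2 b b.2)
  set act : Q →* MulAut (M →* ℂˣ) := (lact M).comp Q.subtype with hact
  have hdlin : ∀ μ : M →* ℂˣ, deg (RelDegrees87.Basic.lin M μ) = 1 :=
    fun μ => RelDegrees87.Basic.deg_lin M μ
  have hidx : ∀ μ : M →* ℂˣ, (∃ u : Q, act u μ ≠ μ) →
      (inertia M (RelDegrees87.Basic.lin M μ : M → ℂ)).index *
        deg (RelDegrees87.Basic.lin M μ) ≠ 1 := by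
    rintro μ ⟨u, hu⟩ h
    rw [hdlin, mul_one, Subgroup.index_eq_one] at h
    exact hu ((mem_inertia_lin M μ u).mp (h ▸ Subgroup.mem_top _))
  have hbasic : ∀ μ : M →* ℂˣ, (∃ u : Q, act u μ ≠ μ) → ∃ χ : Cfsg.IrrCharacter H, deg χ ≠ 1 ∧
      deg χ = (inertia M (RelDegrees87.Basic.lin M μ : M → ℂ)).index := by
    intro μ hμ
    obtain ⟨χ, hχ⟩ := exists_ext_of_coprime hcop (RelDegrees87.Basic.lin M μ)
    obtain ⟨χ', h, -⟩ := exists_basic hc _ hχ
    exact ⟨χ', h ▸ hidx μ hμ, by rw [h, hdlin, mul_one]⟩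
  have hqV : q.Coprime (Nat.card (M →* ℂˣ)) := hM.symm.coprime_dvd_right (card_hom_dvd M)
  have hanti : ∀ μ ν : M →* ℂˣ, (∃ u, act u μ ≠ μ) → (∃ u, act u ν ≠ ν) →
      (∀ u, act u μ = μ → act u ν = ν) → ∀ u, act u ν = ν → act u μ = μ := by
    intro μ ν hμ hν hle u hu
    obtain ⟨χ, hχ1, hχ⟩ := hbasic μ hμ
    obtain ⟨χ', hχ1', hχ'⟩ := hbasic ν hν
    have hIle := inertia_le hc (θ := RelDegrees87.Basic.lin M μ) (θ' := RelDegrees87.Basic.lin M ν)
      fun v hv hv' => (mem_inertia_lin M ν v).mpr (hle ⟨v, hv⟩ ((mem_inertia_lin M μ v).mp hv'))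
    have heq := hyp.nd χ' χ hχ1' hχ1 (by rw [hχ, hχ']; exact Subgroup.index_dvd_of_le hIle)
    rw [hχ, hχ'] at heq
    have h1 := Subgroup.relIndex_mul_index hIle
    rw [← heq] at h1
    have h2 : (inertia M (RelDegrees87.Basic.lin M μ : M → ℂ)).relIndex
        (inertia M (RelDegrees87.Basic.lin M ν : M → ℂ)) = 1 :=
      (Nat.mul_eq_right Subgroup.index_ne_zero_of_finite).mp h1
    exact (mem_inertia_lin M μ u).mp (Subgroup.relIndex_eq_one.mp h2 ((mem_inertia_lin M ν u).mpr hu))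
  have hnofix : ∀ (h : Q) (ν : M →* ℂˣ), act h ν ≠ ν →
      ∃ u, act u (act h ν / ν) ≠ act h ν / ν := by
    intro h ν hν
    by_contra hall
    push Not at hall
    set δ := act h ν / ν with hδ
    have hh : act h ν = δ * ν := by rw [hδ, div_mul_cancel]
    have hit : ∀ k : ℕ, act (h ^ k) ν = δ ^ k * ν := by
      intro k
      induction k with
      | zero => simp
      | succ k ih =>
        rw [pow_succ, map_mul, MulAut.mul_apply, hh, map_mul, hall, ih, pow_succ', mul_assoc]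
    obtain ⟨k, hk⟩ := hQ.exists_card_eq
    have h1 := hit (Nat.card Q)
    rw [pow_card_eq_one', map_one, MulAut.one_apply] at h1
    have h2 : δ ^ (q ^ k) = 1 := hk ▸ mul_eq_right.mp h1.symm
    have h3 : δ = 1 := orderOf_eq_one_iff.mp (Nat.eq_one_of_dvd_coprimes (hqV.pow_left k)
      (orderOf_dvd_of_pow_eq_one h2) (orderOf_dvd_natCard δ))
    exact hν (by rw [hh, h3, one_mul])
  obtain ⟨μ₀, u₀, hu₀, hμ₀⟩ := hmov
  have hm₀ : ∃ u : Q, act u μ₀ ≠ μ₀ := ⟨⟨u₀, hu₀⟩, hμ₀⟩
  set X : Subgroup Q := (inertia M (RelDegrees87.Basic.lin M μ₀ : M → ℂ)).subgroupOf Q with hX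
  have hXiff : ∀ u : Q, u ∈ X ↔ act u μ₀ = μ₀ := fun u => mem_inertia_lin M μ₀ u
  have hcommon : ∀ x : M →* ℂˣ, (∃ u, act u x ≠ x) → ∀ u, act u x = x ↔ u ∈ X := fun x hx u => by
    rw [hXiff]
    exact ⟨Abstract.common_stab hU act hanti hnofix x μ₀ hx hm₀ u,
      Abstract.common_stab hU act hanti hnofix μ₀ x hm₀ hx u⟩
  -- the fixed points of `α` lie in `X`
  have hfix : ∀ u : Q, α (u : H) = u → u ∈ X := by
    intro d hd
    by_contra hdX
    set αQ : Q ≃* Q := restrictAut α Q hαQ with hαQdef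
    have hiter : ∀ v : Q, (⇑αQ)^[orderOf α] v = v := fun v => by
      have h : ∀ k, (((⇑αQ)^[k] v : Q) : H) = (α ^ k) (v : H) := by
        intro k
        induction k with
        | zero => simp
        | succ k ih =>
          rw [Function.iterate_succ_apply', pow_succ', MulAut.mul_apply, ← ih]
          rfl
      exact Subtype.ext (by rw [h, pow_orderOf_eq_one]; rfl)
    set R := (Abstract.diff hU αQ).range with hR
    have hRfix : ∀ x ∈ R, αQ x = x → x = 1 := by
      intro x hx hxf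
      have h1 := Abstract.pow_eq_one_of_fixed hU αQ hiter hx hxf
      obtain ⟨k, hk⟩ := hQ x
      exact orderOf_eq_one_iff.mp (Nat.eq_one_of_dvd_coprimes (hαq.pow_right k)
        (orderOf_dvd_of_pow_eq_one h1) (orderOf_dvd_of_pow_eq_one hk))
    have hRne : R ≠ ⊥ := by
      intro h
      obtain ⟨x, hx, hxne⟩ := hαne
      have h1 : Abstract.diff hU αQ ⟨x, hx⟩ ∈ R := ⟨_, rfl⟩
      rw [h, Subgroup.mem_bot, Abstract.diff_apply, mul_inv_eq_one] at h1
      exact hxne (congrArg Subtype.val h1)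
    obtain ⟨k, hk⟩ := (hQ.to_subgroup R).exists_card_eq
    have hqR : q ∣ Nat.card R := by
      rw [hk]
      refine dvd_pow_self q fun h0 => hRne (Subgroup.eq_bot_of_card_eq R ?_)
      rw [hk, h0, pow_zero]
    obtain ⟨a, ha⟩ := exists_prime_orderOf_dvd_card' q hqR
    -- a power of `d` of order `q` modulo `X`
    have hex : ∃ m, d ^ (q ^ m) ∈ X := by
      obtain ⟨m, hm⟩ := hQ d
      exact ⟨m, by rw [hm]; exact one_mem _⟩
    have hm0 : Nat.find hex ≠ 0 := fun h => hdX (by simpa [h] using Nat.find_spec hex)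
    obtain ⟨m, hm⟩ := Nat.exists_eq_succ_of_ne_zero hm0
    set b := d ^ (q ^ m) with hb
    have hbX : b ∉ X := Nat.find_min hex (by omega)
    have hbq : b ^ q ∈ X := by
      rw [hb, ← pow_mul, ← pow_succ]
      simpa [hm] using Nat.find_spec hex
    have hdfix : αQ d = d := Subtype.ext hd
    have hbfix : αQ b = b := by rw [hb, map_pow, hdfix]
    have hXfix : ∀ x ∈ X, αQ x = x := by
      intro x hx
      obtain ⟨χ, hχ⟩ := exists_ext_of_coprime hcop (RelDegrees87.Basic.lin M μ₀)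
      exact Subtype.ext (fixed_of_stab hc hyp hαM hαQ hab _ hχ (hidx μ₀ hm₀) x x.2 hx)
    have haq : (a : Q) ^ q = 1 := by rw [← ha, ← Subgroup.orderOf_coe, pow_orderOf_eq_one]
    have habX : ∀ i j : ℕ, (a : Q) ^ i * b ^ j ∈ X → q ∣ i ∧ q ∣ j := by
      intro i j hij
      have h1 := hXfix _ hij
      rw [map_mul, map_pow, map_pow, hbfix, mul_left_inj, ← map_pow] at h1
      have h2 := hRfix _ (pow_mem a.2 i) h1
      have hi : q ∣ i := by
        rw [← ha, ← Subgroup.orderOf_coe]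
        exact orderOf_dvd_of_pow_eq_one h2
      refine ⟨hi, ?_⟩
      rw [h2, one_mul] at hij
      by_contra hj
      have h3 := Abstract.pow_gcd_mem X hij hbq
      rw [Nat.Coprime.gcd_eq_one (hq.out.coprime_iff_not_dvd.mpr hj).symm, pow_one] at h3
      exact hbX h3
    exact hμ₀ (Abstract.no_plane hU act hqV X hcommon a b (haq ▸ one_mem X) hbq habX μ₀ ⟨u₀, hu₀⟩)
  obtain ⟨χ₀, hχ₀1, hχ₀⟩ := hbasic μ₀ hm₀
  suffices key : ∀ φ : Cfsg.IrrCharacter H, deg φ ≠ 1 → deg φ = deg χ₀ by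
    rw [key ψ hne, key ψ' hne']
  intro φ hφ
  obtain ⟨θ, hθ⟩ := exists_constituent_restrict M φ.2
  obtain ⟨χ, hχ⟩ := exists_ext_of_coprime hcop θ
  obtain ⟨hd, hd1⟩ := degree_eq_basic hc hyp hab θ hχ hθ hφ
  have hle : inertia M (θ : M → ℂ) ≤ inertia M (RelDegrees87.Basic.lin M μ₀ : M → ℂ) :=
    inertia_le hc fun v hv hv' =>
      hfix ⟨v, hv⟩ (fixed_of_stab hc hyp hαM hαQ hab θ hχ hd1 v hv hv')
  exact (hyp.nd χ₀ φ hχ₀1 hφ
    (by rw [hχ₀, hd]; exact dvd_mul_of_dvd_left (Subgroup.index_dvd_of_le hle) _)).symm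

end Cfsg.Agent.Lib.NoDivDegrees78.QPart
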