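import Cfsg.Agent.Lib.NoDivDegrees78.Derived

/-!
# Full ramification, and extension to the stabiliser
-/

set_option autoImplicit false
set_option linter.unusedSectionVars false
set_option linter.style.haveILetI false

namespace Cfsg.Agent.Lib.NoDivDegrees78.Radical

open scoped ComplexConjugate commutatorElement
open Cfsg.Agent.Lib.Characters.Basic Cfsg.Agent.Lib.BlocksChars5.Basic
open Cfsg.Agent.Lib.Clifford.Basic Cfsg.Agent.Lib.Induced.Basic
open Cfsg.Agent.Lib
open Cfsg.Agent.Lib.NoDivDegrees78.Complement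
open Cfsg.Agent.Lib.NoDivDegrees78.QPart (lact)
open Cfsg.Agent.Lib.NoDivDegrees78.Derived
open Cfsg.Agent.Lib.NoDivDegrees78.FpfLinear

universe u

noncomputable local instance (priority := high) homOne {N : Type*} [Group N] : One (N →* ℂˣ) :=
  (MonoidHom.instCommGroup (M := N) (N := ℂˣ)).toGroup.toDivInvMonoid.toMonoid.toMulOneClass.toMulOne.toOne
noncomputable local instance (priority := high) homMul {N : Type*} [Group N] : Mul (N →* ℂˣ) :=
  (MonoidHom.instCommGroup (M := N) (N := ℂˣ)).toGroup.toDivInvMonoid.toMonoid.toMulOneClass.toMulOne.toMul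
noncomputable local instance (priority := high) homPow {N : Type*} [Group N] : Pow (N →* ℂˣ) ℕ :=
  (MonoidHom.instCommGroup (M := N) (N := ℂˣ)).toGroup.toDivInvMonoid.toMonoid.toNPow.toPow
noncomputable local instance (priority := high) homInv {N : Type*} [Group N] : Inv (N →* ℂˣ) :=
  (MonoidHom.instCommGroup (M := N) (N := ℂˣ)).toGroup.toDivInvMonoid.toInv
noncomputable local instance (priority := high) homDiv {N : Type*} [Group N] : Div (N →* ℂˣ) :=
  (MonoidHom.instCommGroup (M := N) (N := ℂˣ)).toGroup.toDivInvMonoid.toDiv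

theorem sq_deg_of_vanishing {G : Type u} [Group G] [Finite G] {η : Cfsg.IrrCharacter G}
    {a : commutator G →* ℂˣ} (ha : OverD η a)
    (hv : ∀ g, g ∉ commutator G → (η : G → ℂ) g = 0) :
    deg η * deg η = (commutator G).index := by
  classical
  haveI := Fintype.ofFinite G
  haveI := Fintype.ofFinite (commutator G)
  have h1 := classInner_self_irr η
  rw [Cfsg.classInner] at h1
  have h2 : ∑ g : G, (η : G → ℂ) g * conj ((η : G → ℂ) g) =
      (Nat.card (commutator G) : ℂ) * ((deg η : ℂ) * (deg η : ℂ)) := by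
    rw [← Finset.sum_subset (s₁ := Finset.univ.filter (· ∈ commutator G)) (Finset.subset_univ _)
      (fun g _ hg => by rw [hv g (by simpa using hg), zero_mul]),
      Finset.sum_congr rfl (g := fun _ => (deg η : ℂ) * (deg η : ℂ)) (fun g hg => ?_),
      Finset.sum_const, nsmul_eq_mul, Nat.card_eq_fintype_card, Fintype.card_subtype]
    have hgd : g ∈ commutator G := by simpa using hg
    have hn : ‖(a ⟨g, hgd⟩ : ℂ)‖ = 1 := Complex.norm_eq_one_of_pow_eq_one
      (n := Nat.card (commutator G)) (by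
        rw [← Units.val_pow_eq_pow_val, ← map_pow, pow_card_eq_one', map_one, Units.val_one])
      Nat.card_pos.ne'
    have h3 : (η : G → ℂ) g = (η : G → ℂ) 1 * (a ⟨g, hgd⟩ : ℂ) := ha ⟨g, hgd⟩
    rw [h3, apply_one, map_mul, Complex.conj_natCast]
    have hu : (a ⟨g, hgd⟩ : ℂ) * conj (a ⟨g, hgd⟩ : ℂ) = 1 := by
      rw [Complex.mul_conj', hn, Complex.ofReal_one, one_pow]
    linear_combination ((deg η : ℂ) * (deg η : ℂ)) * hu
  rw [h2, inv_mul_eq_one₀ natCard_ne_zero] at h1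
  have h3 : Nat.card G = Nat.card (commutator G) * (deg η * deg η) := by exact_mod_cast h1
  rw [← (commutator G).card_mul_index] at h3
  exact (Nat.eq_of_mul_eq_mul_left Nat.card_pos h3).symm

variable {H : Type u} [Group H] [Finite H] {W U : Subgroup H} [W.Normal]
  (hc : Subgroup.IsComplement' W U) {α : MulAut H} (hyp : Hyp α) {r₀ : H} {q : ℕ}
  (hS : Setting W U α r₀ q)

theorem conj_apply_of_mem {η : Cfsg.IrrCharacter W} {y : H} (hy : y ∈ inertia W (η : W → ℂ))
    (w : W) :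
    (η : W → ℂ) ⟨y * w * y⁻¹, (inferInstance : W.Normal).conj_mem (w : H) w.2 y⟩ = (η : W → ℂ) w :=
  congrFun ((mem_inertia W).mp hy) w

/-- The stabiliser of `η` in linear characters. -/
noncomputable def rad (η : Cfsg.IrrCharacter W) : Subgroup (W →* ℂˣ) where
  carrier := {μ | ∀ w, (μ w : ℂ) * (η : W → ℂ) w = (η : W → ℂ) w}
  one_mem' := fun w => one_mul _
  mul_mem' {a b} ha hb := fun w => by
    show ((a w * b w : ℂˣ) : ℂ) * _ = _
    rw [Units.val_mul, mul_assoc, hb, ha]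
  inv_mem' {a} ha := fun w => by
    show (((a w)⁻¹ : ℂˣ) : ℂ) * _ = _
    conv_lhs => rw [← ha w, ← mul_assoc, Units.inv_mul, one_mul]

/-- A fixed-point-free element fixing `η` detects membership in `rad η`. -/
theorem mem_rad_of_diff {η : Cfsg.IrrCharacter W} {y : H} (hy : y ∈ inertia W (η : W → ℂ))
    (hfree : ∀ μ : W →* ℂˣ, lact W y μ = μ → μ = 1) {μ : W →* ℂˣ}
    (h : lact W y μ / μ ∈ rad η) : μ ∈ rad η := by
  haveI := QPart.finite_hom W
  have hinv : ∀ ν ∈ rad η, lact W y ν ∈ rad η := by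
    intro ν hν w
    rw [QPart.lact_apply]
    have h1 := hν ⟨y⁻¹ * w * y, by simpa using (inferInstance : W.Normal).conj_mem _ w.2 y⁻¹⟩
    have h2 := conj_apply_of_mem hy
      ⟨y⁻¹ * w * y, by simpa using (inferInstance : W.Normal).conj_mem _ w.2 y⁻¹⟩
    rw [← h2] at h1
    simpa [mul_assoc] using h1
  let D : rad η → rad η := fun ν => ⟨lact W y ν / ν, div_mem (hinv ν ν.2) ν.2⟩
  have hD : Function.Injective D := fun a b e => by
    have e1 : lact W y (a : W →* ℂˣ) / a = lact W y (b : W →* ℂˣ) / b := congrArg Subtype.val e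
    rw [div_eq_div_iff_mul_eq_mul] at e1
    refine Subtype.ext (div_eq_one.mp (hfree _ ?_))
    rw [map_div, div_eq_div_iff_mul_eq_mul, e1]
    exact MonoidHom.ext fun _ => mul_comm _ _
  obtain ⟨ν, hν⟩ := Finite.injective_iff_surjective.mp hD ⟨_, h⟩
  have e2 : lact W y (ν : W →* ℂˣ) / ν = lact W y μ / μ := congrArg Subtype.val hν
  rw [div_eq_div_iff_mul_eq_mul] at e2
  have e3 : μ = ν := (div_eq_one.mp (hfree _ (by
    rw [map_div, div_eq_div_iff_mul_eq_mul, e2]
    exact MonoidHom.ext fun _ => mul_comm _ _))).symm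
  rw [e3]
  exact ν.2

include hc hyp hS in
theorem exists_free [Fintype H] [Fintype W] {μ₀ : W →* ℂˣ} (hμ₀ : μ₀ ≠ 1)
    (η : Cfsg.IrrCharacter W) (hη : deg η ≠ 1) :
    ∃ y ∈ U, y ∈ inertia W (η : W → ℂ) ∧ ∀ μ : W →* ℂˣ, lact W y μ = μ → μ = 1 := by
  obtain ⟨y, hyU, hy, hym⟩ := exists_stab_moving hc hyp hS hμ₀ η hη
  refine ⟨y, hyU, hy, fun μ hμ => ?_⟩
  by_contra h1
  exact hym (stab_common hc hyp hS h1 hμ₀ y hyU hμ)

include hS in
theorem dact_fix_of_inertia {η : Cfsg.IrrCharacter W} {a : commutator W →* ℂˣ} (ha : OverD η a)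
    {u : H} (hu : u ∈ inertia W (η : W → ℂ)) : dact W u a = a := by
  have h := overD_conj W (h := u⁻¹) ha (η' := η) (((mem_inertia W).mp (inv_mem hu)).symm)
  rw [inv_inv] at h
  exact eq_of_overD h ha

include hc hyp hS in
/-- Multiplication by linear characters fixes a nonlinear character. -/
theorem mem_rad [Fintype H] [Fintype W] {μ₀ : W →* ℂˣ} (hμ₀ : μ₀ ≠ 1) {η : Cfsg.IrrCharacter W}
    {a : commutator W →* ℂˣ} (ha : OverD η a) (hne : a ≠ 1) (μ : W →* ℂˣ) : μ ∈ rad η := by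
  obtain ⟨y, hyU, hy, hfree⟩ := exists_free hc hyp hS hμ₀ η (deg_ne_one ha hne)
  set η' := RelDegrees87.Basic.mulL W μ η with hη'
  have hη'd : deg η' ≠ 1 := by
    rw [deg, hη', RelDegrees87.Basic.deg_mulL]
    exact deg_ne_one ha hne
  obtain ⟨z, hzU, hz, hzfree⟩ := exists_free hc hyp hS hμ₀ η' hη'd
  have hη'a : OverD η' a := fun d => by
    have h1 : ∀ x : W, x ∈ commutator W → μ x = 1 := fun x hx =>
      MonoidHom.mem_ker.mp (Abelianization.commutator_subset_ker μ hx)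
    show (μ (d : W) : ℂ) * (η : W → ℂ) d = ((μ 1 : ℂˣ) : ℂ) * (η : W → ℂ) 1 * _
    rw [h1 _ d.2, map_one, Units.val_one, one_mul, one_mul]
    exact ha d
  -- `z` fixes `η`
  have hza : dact W z a = a := dact_fix_of_inertia hS hη'a hz
  let η'' : Cfsg.IrrCharacter W := ⟨_, isIrrCharacter_conjC W z⁻¹ η.2⟩
  have hη''a : OverD η'' a := by
    have h := overD_conj W (η' := η'') (h := z⁻¹) ha rfl
    rwa [inv_inv, hza] at h
  obtain ⟨ν, hν⟩ := exists_mul_of_overD ha hη''a
  have hηne : ∀ w : W, (η'' : W → ℂ) ⟨y * w * y⁻¹,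
      (inferInstance : W.Normal).conj_mem (w : H) w.2 y⟩ = (η'' : W → ℂ) w := by
    intro w
    show conjC W z⁻¹ (η : W → ℂ) _ = conjC W z⁻¹ (η : W → ℂ) w
    have h1 : conjC W y (conjC W z⁻¹ (η : W → ℂ)) = conjC W z⁻¹ (η : W → ℂ) := by
      rw [← conjC_mul, ← hS.comm _ hyU _ (inv_mem hzU), conjC_mul, (mem_inertia W).mp hy]
    exact congrFun h1 w
  have hνrad : lact W y⁻¹ ν / ν ∈ rad η := by
    intro w
    have h1 := hηne w
    rw [hν, hν, conj_apply_of_mem hy] at h1
    show ((lact W y⁻¹ ν w / ν w : ℂˣ) : ℂ) * _ = _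
    rw [QPart.lact_apply, Units.val_div_eq_div_val, div_mul_eq_mul_div,
      div_eq_iff (Units.ne_zero _), mul_comm ((η : W → ℂ) w)]
    simp only [inv_inv]
    exact h1
  have hfree' : ∀ ρ : W →* ℂˣ, lact W y⁻¹ ρ = ρ → ρ = 1 := fun ρ h => hfree ρ (by
    conv_lhs => rw [← h, ← MulAut.mul_apply, ← map_mul, mul_inv_cancel, map_one, MulAut.one_apply])
  have hνr := mem_rad_of_diff (inv_mem hy) hfree' hνrad
  have hzη : z ∈ inertia W (η : W → ℂ) := by
    have h1 : conjC W z⁻¹ (η : W → ℂ) = η := funext fun w => (hν w).trans (hνr w)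
    simpa using inv_mem ((mem_inertia W).mpr h1)
  -- `z` fixes `η` and `μ η`
  refine mem_rad_of_diff hzη hzfree (fun w => ?_)
  have hz' := inv_mem hz
  have h1 : (η' : W → ℂ) ⟨z⁻¹ * w * z⁻¹⁻¹,
      (inferInstance : W.Normal).conj_mem (w : H) w.2 z⁻¹⟩ = (η' : W → ℂ) w :=
    conj_apply_of_mem hz' w
  have h2 : (η : W → ℂ) ⟨z⁻¹ * w * z⁻¹⁻¹,
      (inferInstance : W.Normal).conj_mem (w : H) w.2 z⁻¹⟩ = (η : W → ℂ) w :=
    conj_apply_of_mem (inv_mem hzη) w
  rw [hη', RelDegrees87.Basic.coe_mulL, Pi.mul_apply, Pi.mul_apply, h2,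
    RelDegrees87.Basic.L_apply, RelDegrees87.Basic.L_apply] at h1
  show ((lact W z μ w / μ w : ℂˣ) : ℂ) * _ = _
  rw [QPart.lact_apply, Units.val_div_eq_div_val, div_mul_eq_mul_div,
    div_eq_iff (Units.ne_zero _), mul_comm ((η : W → ℂ) w)]
  simpa using h1

include hc hyp hS in
theorem vanishing [Fintype H] [Fintype W] {μ₀ : W →* ℂˣ} (hμ₀ : μ₀ ≠ 1)
    {η : Cfsg.IrrCharacter W} {a : commutator W →* ℂˣ} (ha : OverD η a) (hne : a ≠ 1) :
    ∀ w : W, w ∉ commutator W → (η : W → ℂ) w = 0 := by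
  intro w hw
  by_contra h
  apply hw
  refine mem_commutator_of_forall fun μ => Units.ext ?_
  have h1 := mem_rad hc hyp hS hμ₀ ha hne μ w
  exact mul_right_cancel₀ h (h1.trans (one_mul _).symm)

include hc hyp hS in
theorem unique_over [Fintype H] [Fintype W] {μ₀ : W →* ℂˣ} (hμ₀ : μ₀ ≠ 1)
    {η η' : Cfsg.IrrCharacter W} {a : commutator W →* ℂˣ} (ha : OverD η a) (ha' : OverD η' a)
    (hne : a ≠ 1) : η' = η := by
  obtain ⟨μ, hμ⟩ := exists_mul_of_overD ha ha'
  exact Subtype.ext (funext fun w => (hμ w).trans (mem_rad hc hyp hS hμ₀ ha hne μ w))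

include hc hyp hS in
/-- The stabiliser of `a` is the stabiliser of the character above it. -/
theorem mem_inertia_iff [Fintype H] [Fintype W] {μ₀ : W →* ℂˣ} (hμ₀ : μ₀ ≠ 1)
    {η : Cfsg.IrrCharacter W} {a : commutator W →* ℂˣ} (ha : OverD η a) (hne : a ≠ 1) (u : H) :
    u ∈ inertia W (η : W → ℂ) ↔ dact W u a = a := by
  refine ⟨dact_fix_of_inertia hS ha, fun h => ?_⟩
  let η' : Cfsg.IrrCharacter W := ⟨_, isIrrCharacter_conjC W u⁻¹ η.2⟩
  have h1 : OverD η' a := by
    have h2 := overD_conj W (η' := η') (h := u⁻¹) ha rfl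
    rwa [inv_inv, h] at h2
  have h3 := congrArg Subtype.val (unique_over hc hyp hS hμ₀ ha h1 hne)
  simpa using inv_mem ((mem_inertia W).mpr h3)

include hc hyp hS in
theorem sq_deg [Fintype H] [Fintype W] {μ₀ : W →* ℂˣ} (hμ₀ : μ₀ ≠ 1)
    {η : Cfsg.IrrCharacter W} {a : commutator W →* ℂˣ} (ha : OverD η a) (hne : a ≠ 1) :
    deg η * deg η = Nat.card (W →* ℂˣ) := by
  rw [sq_deg_of_vanishing ha (vanishing hc hyp hS hμ₀ ha hne),
    Nat.card_congr (Characters.Linear.linEquiv W), Characters.Linear.card_linear]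

include hc hyp hS in
/-- The common stabiliser of the linear characters centralises modulo the kernel. -/
theorem commutator_mem_charKer [Fintype H] [Fintype W] {μ₀ : W →* ℂˣ} (hμ₀ : μ₀ ≠ 1)
    {η : Cfsg.IrrCharacter W} {a : commutator W →* ℂˣ} (ha : OverD η a) (hne : a ≠ 1)
    (ha' : ∀ (g : W) (d : commutator W),
      a ⟨g * d * g⁻¹, (inferInstance : (commutator W).Normal).conj_mem (d : W) d.2 g⟩ = a d)
    {x : H} (hxU : x ∈ U) (hx : lact W x μ₀ = μ₀) (w : W) :
    MulAut.conjNormal x w * w⁻¹ ∈ charKer η := by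
  obtain ⟨y, hyU, hy, hfree⟩ := exists_free hc hyp hS hμ₀ η (deg_ne_one ha hne)
  have hD : ∀ v : W, MulAut.conjNormal x v * v⁻¹ ∈ commutator W := by
    intro v
    refine mem_commutator_of_forall fun μ => ?_
    have hμ : lact W x μ = μ := by
      by_cases h1 : μ = 1
      · rw [h1]; exact map_one _
      · exact stab_common hc hyp hS hμ₀ h1 x hxU hx
    have h2 := DFunLike.congr_fun hμ (MulAut.conjNormal x v)
    rw [QPart.lact_apply] at h2
    rw [map_mul, map_inv, mul_inv_eq_one, ← h2]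
    exact congrArg μ (Subtype.ext (by simp [mul_assoc]))
  let f : W →* ℂˣ := MonoidHom.mk' (fun v => a ⟨_, hD v⟩) fun v v' => by
    conv_rhs => rw [← ha' v ⟨_, hD v'⟩, ← map_mul]
    congr 1
    apply Subtype.ext
    show MulAut.conjNormal x (v * v') * (v * v')⁻¹ =
      (MulAut.conjNormal x v * v⁻¹) * (v * (MulAut.conjNormal x v' * v'⁻¹) * v⁻¹)
    rw [map_mul]
    group
  have hf : f = 1 := by
    refine hfree f (MonoidHom.ext fun v => ?_)
    have hfix := DFunLike.congr_fun (dact_fix_of_inertia hS ha hy) ⟨_, hD v⟩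
    rw [dact_apply] at hfix
    rw [QPart.lact_apply]
    show a ⟨_, hD _⟩ = a ⟨_, hD v⟩
    rw [← hfix]
    congr 1
    refine Subtype.ext (Subtype.ext ?_)
    rw [Derived.coe_dAut]
    simp only [Subgroup.coe_mul, Subgroup.coe_inv, MulAut.conjNormal_apply, inv_inv]
    have hcm : x * y⁻¹ = y⁻¹ * x := hS.comm _ hxU _ (inv_mem hyU)
    have hcm' : y * x⁻¹ = x⁻¹ * y := (hS.comm _ hyU _ (inv_mem hxU))
    calc x * (y⁻¹ * (v : H) * y) * x⁻¹ * (y⁻¹ * (v : H) * y)⁻¹
        = (x * y⁻¹) * (v : H) * (y * x⁻¹) * y⁻¹ * (v : H)⁻¹ * y := by group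
      _ = _ := by rw [hcm, hcm']; group
  rw [mem_charKer]
  have h1 := ha ⟨_, hD w⟩
  have h2 : a ⟨_, hD w⟩ = 1 := DFunLike.congr_fun hf w
  rw [h2, Units.val_one, mul_one] at h1
  exact h1

end Cfsg.Agent.Lib.NoDivDegrees78.Radical
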