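import Cfsg.Agent.Lib.NoDivDegrees78.QPart
import Cfsg.Agent.Lib.Characters.Kernel

/-!
# Tools for the fixed-point-free case
-/

set_option autoImplicit false
set_option linter.unusedSectionVars false
set_option linter.style.haveILetI false

namespace Cfsg.Agent.Lib.NoDivDegrees78.Tools

open scoped ComplexConjugate commutatorElement
open Cfsg.Agent.Lib.Characters.Basic Cfsg.Agent.Lib.BlocksChars5.Basic
open Cfsg.Agent.Lib.Clifford.Basic Cfsg.Agent.Lib.Induced.Basic
open Cfsg.Agent.Lib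
open Cfsg.Agent.Lib.NoDivDegrees78.Complement
open Cfsg.Agent.Lib.Frobenius.Nilpotent (restrictAut restrictAut_apply)

universe u

variable {H : Type u} [Group H] [Finite H] {M Q : Subgroup H} [M.Normal]
  (hc : Subgroup.IsComplement' M Q) {α : MulAut H} (hyp : Hyp α)

include hc hyp in
/-- An invariant character above `θ` conjugates `θ` to its image. -/
theorem exists_conj_eq_comp [Fintype H] [Fintype M] (hαM : ∀ x ∈ M, α x ∈ M)
    {θ : Cfsg.IrrCharacter M} {ψ : Cfsg.IrrCharacter H} (hψ : RelDegrees87.Basic.Over M ψ θ)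
    (hne : deg ψ ≠ 1) :
    ∃ u ∈ Q, ∀ m : M, conjC M u (θ : M → ℂ) m = (θ : M → ℂ) ⟨α m, hαM m m.2⟩ := by
  classical
  set αM := restrictAut α M hαM with hαMdef
  let θα : Cfsg.IrrCharacter M := ⟨_, isIrr_comp_equiv θ αM⟩
  have hovα : Cfsg.classInner (fun n : M => (ψ : H → ℂ) n) θα ≠ 0 := by
    have e1 : (fun n : M => (ψ : H → ℂ) n) = (fun n : M => (ψ : H → ℂ) n) ∘ αM :=
      funext fun n => by
        show (ψ : H → ℂ) n = (ψ : H → ℂ) ((αM n : M) : H)
        rw [hαMdef, restrictAut_apply, hyp.inv ψ hne]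
    rw [e1]
    show Cfsg.classInner _ ((θ : M → ℂ) ∘ αM) ≠ 0
    rw [Complement.classInner_comp_equiv]
    exact hψ
  obtain ⟨g, hg⟩ := exists_conj_of_constituents M ψ.2 hψ hovα
  refine ⟨proj hc g, proj_mem hc g, fun m => ?_⟩
  have h1 : conjC M (proj hc g) (θ : M → ℂ) = θα := by
    rw [← hg]
    conv_rhs => rw [show g = g * (proj hc g)⁻¹ * proj hc g by group, conjC_mul,
      conjC_of_mem M (isClassFunction_irr θ) (mul_proj_inv_mem hc g)]
  exact congrFun h1 m

include hc hyp in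
/-- Equal degrees and nested inertia groups force equality. -/
theorem inertia_eq_of_le [Fintype H] [Fintype M] {θ θ' : Cfsg.IrrCharacter M}
    {χ : Cfsg.IrrCharacter (inertia M (θ : M → ℂ))} (hχ : Ext θ χ)
    {χ' : Cfsg.IrrCharacter (inertia M (θ' : M → ℂ))} (hχ' : Ext θ' χ')
    (hd : deg θ = deg θ') (hne : (inertia M (θ : M → ℂ)).index * deg θ ≠ 1)
    (hne' : (inertia M (θ' : M → ℂ)).index * deg θ' ≠ 1)
    (hle : ∀ u ∈ Q, u ∈ inertia M (θ : M → ℂ) → u ∈ inertia M (θ' : M → ℂ)) :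
    inertia M (θ : M → ℂ) = inertia M (θ' : M → ℂ) := by
  obtain ⟨ψ, hψ, -⟩ := exists_basic hc θ hχ
  obtain ⟨ψ', hψ', -⟩ := exists_basic hc θ' hχ'
  have hIle := QPart.inertia_le hc hle
  have heq := hyp.nd ψ' ψ (hψ' ▸ hne') (hψ ▸ hne)
    (by rw [hψ, hψ', hd]; exact Nat.mul_dvd_mul_right (Subgroup.index_dvd_of_le hIle) _)
  rw [hψ, hψ', hd, Nat.mul_left_inj (degree_pos θ').ne'] at heq
  refine le_antisymm hIle ?_
  have h1 := Subgroup.relIndex_mul_index hIle
  rw [← heq] at h1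
  exact Subgroup.relIndex_eq_one.mp ((Nat.mul_eq_right Subgroup.index_ne_zero_of_finite).mp h1)

include hc in
/-- A linear character extends to its inertia group by the projection. -/
theorem exists_ext_lin (μ : M →* ℂˣ) :
    ∃ χ : Cfsg.IrrCharacter (inertia M (RelDegrees87.Basic.lin M μ : M → ℂ)),
      Ext (RelDegrees87.Basic.lin M μ) χ := by
  set θ := RelDegrees87.Basic.lin M μ
  have hfix : ∀ u, u ∈ inertia M (θ : M → ℂ) → ∀ m : M,
      μ ⟨u * m * u⁻¹, (inferInstance : M.Normal).conj_mem (m : H) m.2 u⟩ = μ m := fun u hu m =>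
    Units.ext (congrFun ((mem_inertia M).mp hu) m)
  let f : inertia M (θ : M → ℂ) →* ℂˣ :=
    MonoidHom.mk' (fun x => μ ⟨(x : H) * (proj hc x)⁻¹, mul_proj_inv_mem hc x⟩) fun a b => by
      rw [← hfix (proj hc a) (proj_mem_inertia hc θ a.2)
        ⟨(b : H) * (proj hc b)⁻¹, mul_proj_inv_mem hc b⟩, ← map_mul]
      congr 1
      apply Subtype.ext
      simp only [Subgroup.coe_mul, map_mul]
      group
  refine ⟨Characters.Linear.linChar f, fun m => ?_⟩
  show ((f _ : ℂˣ) : ℂ) = (μ m : ℂ)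
  have e : (⟨((⟨m, le_inertia' θ m.2⟩ : inertia M (θ : M → ℂ)) : H) * (proj hc (m : H))⁻¹,
      mul_proj_inv_mem hc (m : H)⟩ : M) = m :=
    Subtype.ext (by simp [proj_eq_one hc m.2])
  show ((μ ⟨_, mul_proj_inv_mem hc (m : H)⟩ : ℂˣ) : ℂ) = _
  rw [e]

/-- An element central modulo the kernel has nonzero value. -/
theorem apply_ne_zero_of_central {G : Type u} [Group G] [Finite G] (η : Cfsg.IrrCharacter G)
    {w : G} (h : ∀ v : G, ⁅w, v⁆ ∈ charKer η) : (η : G → ℂ) w ≠ 0 := by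
  obtain ⟨k, ρ, hρ, hρc⟩ := exists_rep η
  haveI := hρ
  have hcomm : ∀ v, ρ w * ρ v = ρ v * ρ w := by
    intro v
    have h1 : ρ.character ⁅w, v⁆ = ρ.character 1 := by rw [hρc]; exact h v
    have h2 := (Characters.Kernel.rep_eq_one_iff ρ _).mpr h1
    rw [← map_mul, ← map_mul,
      show w * v = ⁅w, v⁆ * (v * w) by simp [commutatorElement_def, mul_assoc], map_mul, h2,
      one_mul]
  let f : Representation.IntertwiningMap ρ ρ := ⟨ρ w, fun g => hcomm g⟩
  obtain ⟨c, hc'⟩ := (Representation.IsIrreducible.algebraMap_intertwiningMap_bijective_of_isAlgClosed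
    (ρ := ρ)).2 f
  have hT : ρ w = c • 1 := by
    have := congrArg Representation.IntertwiningMap.toLinearMap hc'
    rw [Algebra.algebraMap_eq_smul_one] at this
    exact this.symm
  have hval : (η : G → ℂ) w = c * (k : ℂ) := by
    rw [← hρc]
    show LinearMap.trace ℂ _ (ρ w) = _
    rw [hT, map_smul, LinearMap.trace_one, Module.finrank_fin_fun, smul_eq_mul]
  have hk : (k : ℂ) ≠ 0 := by
    have h1 := apply_one_ne_zero η
    rwa [← hρc, Representation.char_one, Module.finrank_fin_fun] at h1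
  rw [hval]
  refine mul_ne_zero (fun h0 => hk ?_) hk
  have h1 : (1 : Module.End ℂ (Fin k → ℂ)) = 0 := by
    rw [← map_one ρ, ← mul_inv_cancel w, map_mul, hT, h0, zero_smul, zero_mul]
  have h2 := congrArg (LinearMap.trace ℂ _) h1
  rwa [map_zero, LinearMap.trace_one, Module.finrank_fin_fun] at h2

end Cfsg.Agent.Lib.NoDivDegrees78.Tools
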